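import Groth.Agent.S6023
import Groth.Agent.QCoh.Ab.Restrict
import Groth.Agent.SiteBase.ExtCompare

/-!
# Cohomology with supports on an open subspace
-/

set_option autoImplicit false
set_option linter.style.haveILetI false
set_option backward.isDefEq.respectTransparency false

universe u

open CategoryTheory CategoryTheory.Limits Opposite TopologicalSpace Topology CategoryTheory.Abelian

noncomputable section

namespace Groth.Agent.H1LCZ

open Groth.Agent

variable {X Y : TopCat.{u}}

/-- A morphism out of `ℤ_V/ℤ_W` as a section. -/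
def homSectEquiv (F : CohTop.Ab X) {W V : Opens X} (h : W ≤ V) :
    (LocCohZ.zq h ⟶ F) ≃+ LocCohZ.sectZ F h :=
  Ext.addEquiv₀.symm.trans (LocCohZ.sect0Equiv F h)

theorem homSectEquiv_val (F : CohTop.Ab X) {W V : Opens X} (h : W ≤ V) (φ : LocCohZ.zq h ⟶ F) :
    (homSectEquiv F h φ).1 =
      CohFree.evalGen (Opens.grothendieckTopology X) V F (cokernel.π _ ≫ φ) := by
  show CohFree.evalGen (Opens.grothendieckTopology X) V F
    (cokernel.π _ ≫ Ext.addEquiv₀ (Ext.addEquiv₀.symm φ)) = _
  rw [AddEquiv.apply_symm_apply]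

theorem homSectEquiv_comp {F G : CohTop.Ab X} {W V : Opens X} (h : W ≤ V) (φ : LocCohZ.zq h ⟶ F) (g : F ⟶ G) :
    (homSectEquiv G h (φ ≫ g)).1 = g.hom.app (op V) (homSectEquiv F h φ).1 := by
  rw [homSectEquiv_val, homSectEquiv_val]
  rfl

variable {j : Y ⟶ X} (hj : IsOpenEmbedding j) {W' V' : Opens Y} (h' : W' ≤ V')

/-- Sections with supports of the restriction. -/
def sectRestrEquiv (F : CohTop.Ab X) :
    LocCohZ.sectZ F (hj.isOpenMap.functor.monotone h' :
      hj.isOpenMap.functor.obj W' ≤ hj.isOpenMap.functor.obj V') ≃+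
    LocCohZ.sectZ ((QCoh.Ab.restr hj).obj F) h' :=
  AddEquiv.refl _

/-- Cohomology with supports inside an open subspace. -/
theorem nonempty_HZ_restr {W V : Opens X} (h : W ≤ V) (hW : hj.isOpenMap.functor.obj W' = W)
    (hV : hj.isOpenMap.functor.obj V' = V) (F : CohTop.Ab X) (i : ℕ) :
    Nonempty (LocCohZ.HZ F i h ≃+ LocCohZ.HZ ((QCoh.Ab.restr hj).obj F) i h') := by
  subst hW hV
  let e : ∀ G : CohTop.Ab X, (LocCohZ.zq h ⟶ G) ≃+ (LocCohZ.zq h' ⟶ (QCoh.Ab.restr hj).obj G) := fun G =>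
    ((homSectEquiv G h).trans (sectRestrEquiv hj h' G)).trans (homSectEquiv ((QCoh.Ab.restr hj).obj G) h').symm
  refine SiteBase.nonempty_ext_addEquiv (QCoh.Ab.restr hj) (LocCohZ.zq h) (LocCohZ.zq h')
    (fun E hE => QCoh.Ab.restr_shortExact hj hE) (fun I hI q => ?_) e (fun G₁ G₂ φ g => ?_) i F
  · haveI := hI
    haveI := SiteBase.isFlasque_of_injective I
    haveI := QCoh.Ab.isFlasque_restr hj I
    exact (S6023.result ((QCoh.Ab.restr hj).obj I)).1 W' V' h' (q + 1) (Nat.succ_pos _)
  · apply (homSectEquiv ((QCoh.Ab.restr hj).obj G₂) h').injective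
    apply Subtype.ext
    rw [homSectEquiv_comp]
    simp only [e, AddEquiv.trans_apply, AddEquiv.apply_symm_apply]
    exact homSectEquiv_comp h φ g

end Groth.Agent.H1LCZ

end
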