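import Groth.Agent.H1LCZ.Affine
import Groth.Agent.H1LCZ.Open
import Groth.Agent.LC.CohAcyclic
import Groth.Agent.SiteBase.ExtCompare

/-!
# Cohomology with supports of the sheaf of a module is local cohomology (Noetherian rings)
-/

set_option autoImplicit false
set_option linter.style.haveILetI false
set_option backward.isDefEq.respectTransparency false
set_option backward.isDefEq.respectTransparency.types false

universe u

open CategoryTheory CategoryTheory.Limits AlgebraicGeometry TopologicalSpace Opposite CategoryTheory.Abelian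

noncomputable section

namespace Groth.Agent.H1LCZ

open Groth.Agent

variable {R : CommRingCat.{u}} [IsNoetherianRing R] (I : Ideal R) (U : (Spec R).Opens)
  (hU : (show Set (PrimeSpectrum R) from U.carrier) = (PrimeSpectrum.zeroLocus (I : Set R))ᶜ)

/-- The sheaf of a module. -/
abbrev tAb (N : ModuleCat.{u} R) : CohTop.Ab (Spec R).carrier := Coh.toAb (tilde N)

theorem toOpen_res_apply (N : ModuleCat.{u} R) (m : N) :
    ((tAb N).obj.map (homOfLE (le_top : U ≤ ⊤)).op).hom ((tilde.toOpen N ⊤).hom m) = (tilde.toOpen N U).hom m :=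
  congr(($(tilde.toOpen_res N ⊤ U (homOfLE le_top))).hom m)

include hU in
theorem mem_torsionSub_iff (N : ModuleCat.{u} R) (m : N) :
    m ∈ DRing.torsionSub I N ↔ (tilde.toOpen N U).hom m = 0 := by
  rw [← LinearMap.mem_ker, H1Punct.ker_toOpen N I U hU, H1Punct.mem_iSup_torsion]
  exact Iff.rfl

/-- Torsion elements as sections with supports. -/
def torsionEquiv (N : ModuleCat.{u} R) :
    DRing.torsionSub I N ≃+ LocCohZ.sectZ (X := (Spec R).carrier) (tAb N) (le_top : U ≤ ⊤) :=
  AddEquiv.ofBijective
    (AddMonoidHom.mk' (fun m => ⟨(tilde.toOpen N ⊤).hom m.1,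
      (toOpen_res_apply U N m.1).trans ((mem_torsionSub_iff I U hU N m.1).1 m.2)⟩)
      fun _ _ => Subtype.ext (map_add _ _ _))
    ⟨fun _ _ h => Subtype.ext ((ConcreteCategory.bijective_of_isIso (tilde.toOpen N (⊤ : (Spec R).Opens))).1
        (congrArg Subtype.val h)),
    fun s => by
      obtain ⟨m, hm⟩ := (ConcreteCategory.bijective_of_isIso (tilde.toOpen N (⊤ : (Spec R).Opens))).2 s.1
      refine ⟨⟨m, (mem_torsionSub_iff I U hU N m).2 ?_⟩, Subtype.ext hm⟩
      rw [← toOpen_res_apply U N m]
      exact (congrArg _ hm).trans s.2⟩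

/-- Morphisms out of `ℤ/ℤ_U` as torsion elements. -/
def homTorsionEquiv (N : ModuleCat.{u} R) :
    DRing.torsionSub I N ≃+ (LocCohZ.zq (X := (Spec R).carrier) (le_top : U ≤ ⊤) ⟶ tAb N) :=
  (torsionEquiv I U hU N).trans (homSectEquiv (tAb N) (le_top : U ≤ ⊤)).symm

theorem homTorsionEquiv_comp_iff {M N : ModuleCat.{u} R} (f : M ⟶ N) (m : DRing.torsionSub I M)
    (n : DRing.torsionSub I N) :
    homTorsionEquiv I U hU M m ≫ (QCoh.toAbFunctor (Spec R)).map (tilde.map f) = homTorsionEquiv I U hU N n ↔
      f.hom m.1 = n.1 := by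
  rw [← (homSectEquiv (tAb N) (le_top : U ≤ ⊤)).injective.eq_iff, ← Subtype.coe_injective.eq_iff,
    homSectEquiv_comp]
  simp only [homTorsionEquiv, AddEquiv.trans_apply, AddEquiv.apply_symm_apply]
  refine Iff.trans ?_ (ConcreteCategory.bijective_of_isIso (tilde.toOpen N (⊤ : (Spec R).Opens))).1.eq_iff
  exact Iff.of_eq (congrArg (· = _) (congr(($(tilde.toOpen_map_app f ⊤)).hom m.1)))

include hU in
theorem subsingleton_HT_injective (E : ModuleCat.{u} R) [Injective E] (i : ℕ) :
    Subsingleton (HT U E (i + 1)) := by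
  haveI : Module.Injective R E := Module.injective_module_of_injective_object R E
  haveI := isFlasque_tilde E
  exact (S6023.result (X := (Spec R).carrier) (tAb E)).1 U ⊤ le_top (i + 1) (Nat.succ_pos _)

include hU in
/-- Cohomology with supports of the sheaf of a module is local cohomology. -/
theorem nonempty_HT_addEquiv (i : ℕ) : ∀ N : ModuleCat.{u} R,
    Nonempty (HT U N i ≃+ (localCohomology I i).obj N) := by
  induction i with
  | zero =>
    intro N
    exact ⟨(LocCohZ.sect0Equiv (X := (Spec R).carrier) (tAb N) (le_top : U ≤ ⊤)).trans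
      ((torsionEquiv I U hU N).symm.trans (LC.H0Equiv I N).symm.toAddEquiv)⟩
  | succ i ih =>
    intro N
    obtain ⟨p⟩ := EnoughInjectives.presentation N
    have key : ∀ S : ShortComplex (ModuleCat.{u} R), S.ShortExact → Injective S.X₂ →
        Nonempty (HT U S.X₁ (i + 1) ≃+ (localCohomology I (i + 1)).obj S.X₁) := by
      intro S hS hinj
      haveI := hinj
      let T : ShortComplex (CohTop.Ab (Spec R).carrier) :=
        (S.map (tilde.functor R)).map (QCoh.toAbFunctor (Spec R))
      have hT : T.ShortExact := shortExact_tilde_toAb hS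
      let Q := LocCohZ.zq (X := (Spec R).carrier) (le_top : U ≤ ⊤)
      have h2 : ∀ q, Subsingleton (Ext Q T.X₂ (q + 1)) := fun q => subsingleton_HT_injective I U hU S.X₂ q
      have h2' : ∀ q, Subsingleton ((localCohomology I (q + 1)).obj S.X₂) :=
        fun q => LC.subsingleton_of_injective I S.X₂ q
      rcases i with _ | j
      · let a : DRing.torsionSub I S.X₃ →+ Ext Q T.X₁ 1 :=
          AddMonoidHom.mk' (fun m => (Ext.mk₀ (homTorsionEquiv I U hU S.X₃ m :)).comp hT.extClass (zero_add 1))
            fun x y => by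
              rw [map_add, Ext.mk₀_add]
              exact Ext.add_comp _ _ _ _
        have ha : Function.Surjective a :=
          (SiteBase.conn_surjective Q hT (h2 0)).comp (homTorsionEquiv I U hU S.X₃).surjective
        obtain ⟨φ, -⟩ := LC.exists_addEquiv_of_surjective (AddEquiv.refl (DRing.torsionSub I S.X₃))
          a (LC.coker₁ I hS).toAddMonoidHom ha (LC.coker₁_surjective I hS h2') fun m => by
            refine (SiteBase.conn_eq_zero_iff Q hT _).trans (Iff.trans ?_ (LC.coker₁_eq_zero_iff I hS m).symm)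
            constructor
            · rintro ⟨ψ, hψ⟩
              obtain ⟨x, rfl⟩ := (homTorsionEquiv I U hU S.X₂).surjective ψ
              exact ⟨x.1, x.2, (homTorsionEquiv_comp_iff I U hU S.g x m).1 hψ⟩
            · rintro ⟨x, hx, hxm⟩
              exact ⟨homTorsionEquiv I U hU S.X₂ ⟨x, hx⟩, (homTorsionEquiv_comp_iff I U hU S.g ⟨x, hx⟩ m).2 hxm⟩
        exact ⟨φ⟩
      · obtain ⟨e₁⟩ := SiteBase.nonempty_conn_addEquiv Q hT j (h2 j) (h2 (j + 1))
        obtain ⟨e₂⟩ := ih S.X₃
        exact ⟨e₁.symm.trans (e₂.trans (LC.shiftEquiv I hS h2' j).toAddEquiv)⟩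
    exact key p.shortComplex p.shortExact_shortComplex p.injective

end Groth.Agent.H1LCZ

end
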