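import Groth.Prelude.Def_LocCohZ
import Groth.Prelude.Def_SuppFam
import Groth.Agent.SuppFamLib.Derived
import Groth.Agent.SiteBase.Top

/-!
# The long sequence of cohomology with supports and the sheaves of local cohomology
-/

set_option autoImplicit false
set_option linter.style.haveILetI false
set_option backward.isDefEq.respectTransparency false

universe u

open CategoryTheory CategoryTheory.Limits Opposite TopologicalSpace CategoryTheory.Abelian

noncomputable section

namespace Groth.Agent.H1LCZ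

open Groth.Agent

variable {X : TopCat.{u}}

local notation "JX" => Opens.grothendieckTopology X

section LES

variable (F : CohTop.Ab X) {W V : Opens X} (h : W ≤ V)

theorem exact_HZ_HU {i : ℕ} (x : CohTop.HU F i V) :
    CohTop.res F i h x = 0 ↔ ∃ y, LocCohZ.toHU F i h y = x := by
  constructor
  · intro hx
    exact Ext.contravariant_sequence_exact₂ (LocCohZ.zqSeq_shortExact h) F (n := i) x hx
  · rintro ⟨y, rfl⟩
    show (Ext.mk₀ (LocCohZ.zqSeq h).f).comp ((Ext.mk₀ (LocCohZ.zqSeq h).g).comp y (zero_add i)) (zero_add i) = 0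
    rw [Ext.mk₀_comp_mk₀_assoc, ShortComplex.zero, Ext.mk₀_zero, Ext.zero_comp]

theorem exact_HU_res {i : ℕ} (x : CohTop.HU F i W) :
    LocCohZ.delta F i h x = 0 ↔ ∃ y, CohTop.res F i h y = x := by
  constructor
  · intro hx
    exact Ext.contravariant_sequence_exact₁ (LocCohZ.zqSeq_shortExact h) F (n₀ := i) x (n₁ := i + 1) (by omega) hx
  · rintro ⟨y, rfl⟩
    show (LocCohZ.zqSeq_shortExact h).extClass.comp ((Ext.mk₀ (LocCohZ.zqSeq h).f).comp y (zero_add i)) (show 1 + i = i + 1 by omega) = 0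
    rw [(LocCohZ.zqSeq_shortExact h).extClass_comp_assoc]

theorem exact_delta_toHU {i : ℕ} (x : LocCohZ.HZ F (i + 1) h) :
    LocCohZ.toHU F (i + 1) h x = 0 ↔ ∃ y, LocCohZ.delta F i h y = x := by
  constructor
  · intro hx
    exact Ext.contravariant_sequence_exact₃ (LocCohZ.zqSeq_shortExact h) F (n₁ := i + 1) x hx (n₀ := i) (by omega)
  · rintro ⟨y, rfl⟩
    show (Ext.mk₀ (LocCohZ.zqSeq h).g).comp ((LocCohZ.zqSeq_shortExact h).extClass.comp y (show 1 + i = i + 1 by omega)) (zero_add (i + 1)) = 0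
    rw [← Ext.comp_assoc (a₁₂ := 1) (a₂₃ := i + 1) _ _ _ (by omega) (by omega) (by omega),
      (LocCohZ.zqSeq_shortExact h).comp_extClass, Ext.zero_comp]

theorem toHU_zero_injective : Function.Injective (LocCohZ.toHU F 0 h) := by
  intro a b hab
  obtain ⟨a, rfl⟩ := (Ext.mk₀_bijective _ _).2 a
  obtain ⟨b, rfl⟩ := (Ext.mk₀_bijective _ _).2 b
  change (Ext.mk₀ (LocCohZ.zqSeq h).g).comp (Ext.mk₀ a) (zero_add 0) =
    (Ext.mk₀ (LocCohZ.zqSeq h).g).comp (Ext.mk₀ b) (zero_add 0) at hab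
  rw [Ext.mk₀_comp_mk₀, Ext.mk₀_comp_mk₀] at hab
  haveI := (LocCohZ.zqSeq_shortExact h).epi_g
  rw [(cancel_epi _).1 ((Ext.mk₀_bijective _ _).1 hab)]

theorem subsingleton_zero_iff :
    Subsingleton (LocCohZ.HZ F 0 h) ↔ Function.Injective (CohTop.res F 0 h) := by
  rw [injective_iff_map_eq_zero]
  constructor
  · intro hs x hx
    obtain ⟨y, rfl⟩ := (exact_HZ_HU F h x).1 hx
    rw [Subsingleton.elim y 0, map_zero]
  · refine fun hi => subsingleton_of_forall_eq 0 fun y => toHU_zero_injective F h ?_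
    rw [map_zero]
    exact hi _ ((exact_HZ_HU F h _).2 ⟨y, rfl⟩)

theorem subsingleton_succ_iff (i : ℕ) :
    Subsingleton (LocCohZ.HZ F (i + 1) h) ↔
      Function.Surjective (CohTop.res F i h) ∧ Function.Injective (CohTop.res F (i + 1) h) := by
  rw [injective_iff_map_eq_zero]
  constructor
  · intro hs
    refine ⟨fun x => (exact_HU_res F h x).1 (Subsingleton.elim _ _), fun x hx => ?_⟩
    obtain ⟨y, rfl⟩ := (exact_HZ_HU F h x).1 hx
    rw [Subsingleton.elim y 0, map_zero]
  · rintro ⟨hs, hi⟩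
    refine subsingleton_of_forall_eq 0 fun y => ?_
    obtain ⟨z, rfl⟩ := (exact_delta_toHU F h y).1 (hi _ ((exact_HZ_HU F h _).2 ⟨y, rfl⟩))
    exact (exact_HU_res F h z).2 (hs z)

/-- Vanishing in a range in terms of restriction maps. -/
theorem vanish_le_iff (N : ℕ) :
    (∀ i ≤ N, Subsingleton (LocCohZ.HZ F i h)) ↔
      (∀ i < N, Function.Bijective (CohTop.res F i h)) ∧ Function.Injective (CohTop.res F N h) := by
  constructor
  · intro hv
    have hinj : ∀ i ≤ N, Function.Injective (CohTop.res F i h) := fun i hi => by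
      rcases i with _ | i
      · exact (subsingleton_zero_iff F h).1 (hv 0 hi)
      · exact ((subsingleton_succ_iff F h i).1 (hv _ hi)).2
    exact ⟨fun i hi => ⟨hinj i hi.le, ((subsingleton_succ_iff F h i).1 (hv _ hi)).1⟩, hinj N le_rfl⟩
  · rintro ⟨hb, hN⟩ i hi
    have hinj : ∀ j ≤ N, Function.Injective (CohTop.res F j h) := fun j hj => by
      rcases hj.lt_or_eq with hj | rfl
      exacts [(hb j hj).1, hN]
    rcases i with _ | i
    · exact (subsingleton_zero_iff F h).2 (hinj 0 hi)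
    · exact (subsingleton_succ_iff F h i).2 ⟨(hb i hi).2, hinj _ hi⟩

end LES

section Sheaf

variable (U : Opens X)

/-- The sheaves `ℤ_V/ℤ_{V ∩ U}` as a functor of the open `V`. -/
def P : Opens X ⥤ CohTop.Ab X where
  obj V := LocCohZ.zq (inf_le_left : V ⊓ U ≤ V)
  map {A B} f := LocCohZ.zqMap (inf_le_left : B ⊓ U ≤ B) (inf_le_left : A ⊓ U ≤ A)
    (inf_le_inf_right U (leOfHom f)) (leOfHom f)
  map_id A := SuppFam.zqMap_id _
  map_comp f g := (SuppFam.zqMap_comp _ _ _ _ _ _ _).symm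

variable (F : CohTop.Ab X)

/-- Sections of `Γ_Z F` inside those of `F`. -/
def incl (V : Opens X) : ((LocCohZ.sectSuppF U).obj F).obj.obj (op V) →+ F.obj.obj (op V) :=
  ((kernel.ι ((TopCat.Sheaf.pullbackPushforwardAdjunction AddCommGrpCat.{u} (CohCx.incl U)).unit.app F)).hom.app (op V)).hom

theorem incl_injective (V : Opens X) : Function.Injective (incl U F V) :=
  SuppFamLib.kernel_ι_injective _ V

theorem res_inf_iff (V : Opens X) (s : F.obj.obj (op V)) :
    F.obj.map (homOfLE (inf_le_right : U ⊓ V ≤ V)).op s = 0 ↔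
      F.obj.map (homOfLE (inf_le_left : V ⊓ U ≤ V)).op s = 0 := by
  rw [← SuppFamLib.res_res F (inf_le_left : V ⊓ U ≤ V) (inf_comm U V).le s]
  exact SuppFamLib.res_eq_zero_iff F _ (inf_comm U V).ge _

theorem range_incl (V : Opens X) (s : F.obj.obj (op V)) :
    (∃ t, incl U F V t = s) ↔ F.obj.map (homOfLE (inf_le_left : V ⊓ U ≤ V)).op s = 0 :=
  (SuppFamLib.exists_kernel_section_iff _ V s).trans
    ((SuppFamLib.unit_app_eq_zero_iff U F V s).trans (res_inf_iff U F V s))

/-- A morphism out of `ℤ_V/ℤ_{V∩U}` as a section. -/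
def evq (V : Opens X) : ((P U).obj V ⟶ F) →+ F.obj.obj (op V) :=
  (CohFree.evalGen JX V F).comp (Preadditive.leftComp F (cokernel.π _))

theorem evq_injective (V : Opens X) : Function.Injective (evq U F V) := by
  intro a b hab
  apply coequalizer.hom_ext
  exact (CohFree.homEquivSect JX V F).injective hab

theorem range_evq (V : Opens X) (s : F.obj.obj (op V)) :
    (∃ φ, evq U F V φ = s) ↔ F.obj.map (homOfLE (inf_le_left : V ⊓ U ≤ V)).op s = 0 := by
  constructor
  · rintro ⟨φ, rfl⟩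
    refine (CohFree.evalGen_freeSheafMap_comp JX (homOfLE (inf_le_left : V ⊓ U ≤ V)) F (cokernel.π _ ≫ φ)).symm.trans ?_
    rw [cokernel.condition_assoc, zero_comp, map_zero]
  · intro hs
    have hz : CohCx.freeSheafMap JX (homOfLE (inf_le_left : V ⊓ U ≤ V)) ≫ CohFree.ofSect JX V F s = 0 := by
      apply (CohFree.homEquivSect JX (V ⊓ U) F).injective
      rw [map_zero, CohFree.homEquivSect_apply, CohFree.evalGen_freeSheafMap_comp, CohFree.evalGen_ofSect]
      exact hs
    refine ⟨cokernel.desc _ _ hz, ?_⟩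
    refine (congrArg (CohFree.evalGen JX V F) (cokernel.π_desc _ _ hz)).trans ?_
    exact CohFree.evalGen_ofSect JX _ F s

theorem exists_eq (V : Opens X) (φ : (P U).obj V ⟶ F) : ∃ t, incl U F V t = evq U F V φ :=
  (range_incl U F V _).2 ((range_evq U F V _).1 ⟨φ, rfl⟩)

/-- The presentation of sections with supports. -/
def σ (V : Opens X) : ((P U).obj V ⟶ F) ≃+ ((LocCohZ.sectSuppF U).obj F).obj.obj (op V) :=
  AddEquiv.ofBijective
    (AddMonoidHom.mk' (fun φ => (exists_eq U F V φ).choose) fun a b => incl_injective U F V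
      ((exists_eq U F V (a + b)).choose_spec.trans ((map_add _ a b).trans (Eq.trans
        (congrArg₂ (· + ·) (exists_eq U F V a).choose_spec.symm (exists_eq U F V b).choose_spec.symm)
        (map_add _ _ _).symm))))
    ⟨fun a b hab => evq_injective U F V (by
      rw [← (exists_eq U F V a).choose_spec, ← (exists_eq U F V b).choose_spec]
      exact congrArg (incl U F V) hab),
    fun t => by
      obtain ⟨φ, hφ⟩ := (range_evq U F V _).2 ((range_incl U F V _).1 ⟨t, rfl⟩)
      exact ⟨φ, incl_injective U F V ((exists_eq U F V φ).choose_spec.trans hφ)⟩⟩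

theorem incl_σ (V : Opens X) (φ : (P U).obj V ⟶ F) : incl U F V (σ U F V φ) = evq U F V φ :=
  (exists_eq U F V φ).choose_spec

/-- `Γ_Z` as a presheaf valued functor is represented by the `ℤ_V/ℤ_{V∩U}`. -/
def pres : SiteBase.HomPres (P U) (LocCohZ.sectSuppF U ⋙ sheafToPresheaf JX AddCommGrpCat.{u}) where
  σ F V := σ U F V
  σ_comp {F G} V φ g := incl_injective U G V (by
    refine (incl_σ U G V _).trans ?_
    have hk : (LocCohZ.sectSuppF U).map g ≫
        kernel.ι ((TopCat.Sheaf.pullbackPushforwardAdjunction AddCommGrpCat.{u} (CohCx.incl U)).unit.app G) =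
      kernel.ι ((TopCat.Sheaf.pullbackPushforwardAdjunction AddCommGrpCat.{u} (CohCx.incl U)).unit.app F) ≫ g :=
      kernel.lift_ι _ _ _
    refine Eq.trans ?_ (congrArg (fun a => (a.hom.app (op V)).hom (σ U F V φ)) hk).symm
    show evq U G V (φ ≫ g) = (g.hom.app (op V)).hom (incl U F V (σ U F V φ))
    rw [incl_σ]
    rfl)
  σ_map {F A B} f φ := incl_injective U F B (by
    refine (incl_σ U F B _).trans ?_
    let ι := kernel.ι ((TopCat.Sheaf.pullbackPushforwardAdjunction AddCommGrpCat.{u} (CohCx.incl U)).unit.app F)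
    refine Eq.trans ?_ (ConcreteCategory.congr_hom (ι.hom.naturality f.op) (σ U F A φ)).symm
    show evq U F B _ = F.obj.map f.op (incl U F A (σ U F A φ))
    rw [incl_σ]
    refine Eq.trans ?_ (CohFree.evalGen_freeSheafMap_comp JX (homOfLE (leOfHom f)) F (cokernel.π _ ≫ φ))
    show CohFree.evalGen JX B F (cokernel.π _ ≫ LocCohZ.zqMap (inf_le_left : A ⊓ U ≤ A) (inf_le_left : B ⊓ U ≤ B)
      (inf_le_inf_right U (leOfHom f)) (leOfHom f) ≫ φ) = _
    rw [LocCohZ.zqMap, cokernel.π_desc_assoc, Category.assoc])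

/-- The sheaves of local cohomology are the sheafified presheaves of cohomology with supports. -/
theorem nonempty_HZsh_iso (q : ℕ) :
    Nonempty ((LocCohZ.HZsh U q).obj F ≅
      (presheafToSheaf JX AddCommGrpCat.{u}).obj ((SiteBase.HomPres.extPsh (P U) q).obj F)) :=
  let e : LocCohZ.sectSuppF U ≅
      (LocCohZ.sectSuppF U ⋙ sheafToPresheaf JX AddCommGrpCat.{u}) ⋙ presheafToSheaf JX AddCommGrpCat.{u} :=
    (Functor.rightUnitor _).symm ≪≫ Functor.isoWhiskerLeft _ (asIso (sheafificationAdjunction JX AddCommGrpCat.{u}).counit).symm ≪≫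
      (Functor.associator _ _ _).symm
  ⟨((SiteBase.rightDerivedCongr e q).app F) ≪≫
    (SiteBase.rightDerivedCompIso (LocCohZ.sectSuppF U ⋙ sheafToPresheaf JX AddCommGrpCat.{u}) (presheafToSheaf JX AddCommGrpCat.{u}) q).app F ≪≫
    (presheafToSheaf JX AddCommGrpCat.{u}).mapIso (((pres U).rightDerivedIso q).app F)⟩

theorem isZero_HZsh (q : ℕ) (h : ∀ V : Opens X, Subsingleton (LocCohZ.HZ F q (inf_le_left : V ⊓ U ≤ V))) :
    IsZero ((LocCohZ.HZsh U q).obj F) := by
  obtain ⟨e⟩ := nonempty_HZsh_iso U F q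
  refine IsZero.of_iso (Functor.map_isZero _ ?_) e
  refine Functor.isZero _ fun V => ?_
  haveI := h V.unop
  exact AddCommGrpCat.isZero_of_subsingleton (AddCommGrpCat.of (LocCohZ.HZ F q (inf_le_left : V.unop ⊓ U ≤ V.unop)))

theorem locally_zero_of_isZero_HZsh (q : ℕ) (h : IsZero ((LocCohZ.HZsh U q).obj F)) (V : Opens X)
    (a : LocCohZ.HZ F q (inf_le_left : V ⊓ U ≤ V)) (x : X) (hx : x ∈ V) :
    ∃ (V' : Opens X) (hle : V' ≤ V), x ∈ V' ∧
      LocCohZ.resZ F q (inf_le_left : V ⊓ U ≤ V) (inf_le_left : V' ⊓ U ≤ V') (inf_le_inf_right U hle) hle a = 0 := by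
  obtain ⟨e⟩ := nonempty_HZsh_iso U F q
  let G : (Opens X)ᵒᵖ ⥤ AddCommGrpCat.{u} := (SiteBase.HomPres.extPsh (P U) q).obj F
  have hz : IsZero ((presheafToSheaf JX AddCommGrpCat.{u}).obj G) := h.of_iso e.symm
  have hz' : IsZero ((sheafify JX G).obj (op V)) :=
    Functor.map_isZero ((evaluation (Opens X)ᵒᵖ AddCommGrpCat.{u}).obj (op V))
      (Functor.map_isZero (sheafToPresheaf JX AddCommGrpCat.{u}) hz)
  haveI := AddCommGrpCat.subsingleton_of_isZero hz'
  have := (Presheaf.equalizerSieve_mem JX (toSheafify JX G) (X := op V) a 0 (Subsingleton.elim _ _)) x hx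
  obtain ⟨V', f, hf, hxV'⟩ := this
  refine ⟨V', leOfHom f, hxV', ?_⟩
  have hf' : (G.map f.op).hom a = (G.map f.op).hom 0 := hf
  rw [map_zero] at hf'
  exact hf'

end Sheaf

end Groth.Agent.H1LCZ

end
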