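import Groth.Agent.H1LCZ.Basic

/-!
# Cohomology with supports is separated in the first possibly nonzero degree
-/

set_option autoImplicit false
set_option linter.style.haveILetI false
set_option backward.isDefEq.respectTransparency false

universe u

open CategoryTheory CategoryTheory.Limits Opposite TopologicalSpace CategoryTheory.Abelian

noncomputable section

namespace Groth.Agent.H1LCZ

open Groth.Agent

variable {X : TopCat.{u}} (U : Opens X)

local notation "JX" => Opens.grothendieckTopology X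

theorem sect_eq_zero_of_subsingleton (F : CohTop.Ab X)
    (h : ∀ V : Opens X, Subsingleton (LocCohZ.HZ F 0 (inf_le_left : V ⊓ U ≤ V))) (V : Opens X)
    (s : F.obj.obj (op V)) (hs : F.obj.map (homOfLE (inf_le_left : V ⊓ U ≤ V)).op s = 0) : s = 0 := by
  haveI := h V
  haveI : Subsingleton (LocCohZ.sectZ F (inf_le_left : V ⊓ U ≤ V)) :=
    (LocCohZ.sect0Equiv F (inf_le_left : V ⊓ U ≤ V)).symm.toEquiv.subsingleton
  exact congrArg Subtype.val (Subsingleton.elim
    (⟨s, hs⟩ : LocCohZ.sectZ F (inf_le_left : V ⊓ U ≤ V)) 0)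

/-- A sheaf without sections supported in `X ∖ U` embeds into an injective one of the same kind. -/
theorem exists_embedding (F : CohTop.Ab X)
    (h : ∀ V : Opens X, Subsingleton (LocCohZ.HZ F 0 (inf_le_left : V ⊓ U ≤ V))) :
    ∃ (S : ShortComplex (CohTop.Ab X)) (_ : S.ShortExact), S.X₁ = F ∧ Injective S.X₂ ∧
      ∀ (V : Opens X) (i : ℕ), Subsingleton (LocCohZ.HZ S.X₂ i (inf_le_left : V ⊓ U ≤ V)) := by
  let j := CohCx.incl U
  let η := (TopCat.Sheaf.pullbackPushforwardAdjunction AddCommGrpCat.{u} j).unit.app F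
  haveI hmono : Mono η := by
    haveI : ∀ V, Mono (η.hom.app V) := fun V => by
      rw [AddCommGrpCat.mono_iff_injective, injective_iff_map_eq_zero]
      intro s hs
      exact sect_eq_zero_of_subsingleton U F h V.unop s
        ((res_inf_iff U F V.unop s).1 ((SuppFamLib.unit_app_eq_zero_iff U F V.unop s).1 hs))
    haveI : Mono η.hom := NatTrans.mono_of_mono_app _
    exact (sheafToPresheaf JX AddCommGrpCat.{u}).mono_of_mono_map this
  obtain ⟨⟨E, hE, f, hf⟩⟩ := EnoughInjectives.presentation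
    ((TopCat.Sheaf.pullback AddCommGrpCat.{u} j).obj F)
  haveI := hE
  haveI : (TopCat.Sheaf.pushforward AddCommGrpCat.{u} j).IsRightAdjoint :=
    (TopCat.Sheaf.pullbackPushforwardAdjunction AddCommGrpCat.{u} j).isRightAdjoint
  haveI : Mono ((TopCat.Sheaf.pushforward AddCommGrpCat.{u} j).map f) := inferInstance
  haveI hJ : Injective ((TopCat.Sheaf.pushforward AddCommGrpCat.{u} j).obj E) := SiteBase.injective_push j E
  let ι : F ⟶ (TopCat.Sheaf.pushforward AddCommGrpCat.{u} j).obj E :=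
    η ≫ (TopCat.Sheaf.pushforward AddCommGrpCat.{u} j).map f
  haveI : Mono ι := mono_comp _ _
  refine ⟨ShortComplex.mk ι (cokernel.π ι) (cokernel.condition ι),
    { exact := ShortComplex.exact_of_g_is_cokernel _ (cokernelIsCokernel ι) }, rfl, hJ, fun V i => ?_⟩
  rcases i with _ | i
  · have key : ∀ c : LocCohZ.sectZ ((TopCat.Sheaf.pushforward AddCommGrpCat.{u} j).obj E) (inf_le_left : V ⊓ U ≤ V),
        c.1 = 0 := fun c =>
      (SuppFamLib.res_eq_zero_iff E
        (show (Opens.map j).obj (V ⊓ U) ≤ (Opens.map j).obj V from fun y hy => hy.1)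
        (fun y hy => ⟨hy, y.2⟩) c.1).1 c.2
    haveI : Subsingleton (LocCohZ.sectZ ((TopCat.Sheaf.pushforward AddCommGrpCat.{u} j).obj E) (inf_le_left : V ⊓ U ≤ V)) :=
      ⟨fun a b => Subtype.ext ((key a).trans (key b).symm)⟩
    exact (LocCohZ.sect0Equiv _ _).toEquiv.subsingleton
  · exact subsingleton_of_forall_eq 0 fun e => Ext.eq_zero_of_injective e

theorem resZ_extClass {S : ShortComplex (CohTop.Ab X)} (hS : S.ShortExact) (i : ℕ) {W V W' V' : Opens X}
    (h : W ≤ V) (h' : W' ≤ V') (hW : W' ≤ W) (hV : V' ≤ V) (x : LocCohZ.HZ S.X₃ i h) :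
    LocCohZ.resZ S.X₁ (i + 1) h h' hW hV (x.comp hS.extClass rfl) =
      (LocCohZ.resZ S.X₃ i h h' hW hV x).comp hS.extClass rfl := by
  show (Ext.mk₀ (LocCohZ.zqMap h h' hW hV)).comp (x.comp hS.extClass rfl) (zero_add (i + 1)) =
    ((Ext.mk₀ (LocCohZ.zqMap h h' hW hV)).comp x (zero_add i)).comp hS.extClass rfl
  rw [← Ext.comp_assoc (a₁₂ := i) (a₂₃ := i + 1) _ _ _ (zero_add i) rfl (by omega)]

/-- In the first possibly nonzero degree a locally zero class is zero. -/
theorem separated : ∀ (m : ℕ) (F : CohTop.Ab X),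
    (∀ i < m, ∀ V : Opens X, Subsingleton (LocCohZ.HZ F i (inf_le_left : V ⊓ U ≤ V))) →
    ∀ (V : Opens X) (a : LocCohZ.HZ F m (inf_le_left : V ⊓ U ≤ V)),
      (∀ x ∈ V, ∃ (V' : Opens X) (hle : V' ≤ V), x ∈ V' ∧
        LocCohZ.resZ F m (inf_le_left : V ⊓ U ≤ V) (inf_le_left : V' ⊓ U ≤ V') (inf_le_inf_right U hle) hle a = 0) →
      a = 0
  | 0, F, _, V, a, ha => by
    let e := LocCohZ.sect0Equiv F (inf_le_left : V ⊓ U ≤ V)
    apply e.injective
    rw [map_zero]
    refine Subtype.ext (TopCat.Presheaf.section_ext F V _ _ fun x hx => ?_)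
    obtain ⟨V', hle, hxV', h0⟩ := ha x hx
    have hres : ((LocCohZ.sect0Equiv F (inf_le_left : V' ⊓ U ≤ V')
        (LocCohZ.resZ F 0 (inf_le_left : V ⊓ U ≤ V) inf_le_left (inf_le_inf_right U hle) hle a)).1) =
        F.obj.map (homOfLE hle).op (e a).1 := by
      obtain ⟨φ, rfl⟩ := (Ext.mk₀_bijective _ _).2 a
      show CohFree.evalGen JX V' F (cokernel.π _ ≫ Ext.addEquiv₀
        ((Ext.mk₀ (LocCohZ.zqMap (inf_le_left : V ⊓ U ≤ V) (inf_le_left : V' ⊓ U ≤ V')
          (inf_le_inf_right U hle) hle)).comp (Ext.mk₀ φ) (zero_add 0))) =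
        F.obj.map (homOfLE hle).op (CohFree.evalGen JX V F (cokernel.π _ ≫ Ext.addEquiv₀ (Ext.mk₀ φ)))
      have h1 : ∀ {A : CohTop.Ab X} (ψ : A ⟶ F), Ext.addEquiv₀ (Ext.mk₀ ψ) = ψ := fun ψ =>
        Ext.addEquiv₀.apply_symm_apply ψ
      rw [Ext.mk₀_comp_mk₀, h1, h1, LocCohZ.zqMap, cokernel.π_desc_assoc, Category.assoc]
      exact CohFree.evalGen_freeSheafMap_comp _ _ _ _
    rw [h0, map_zero] at hres
    have h3 : F.obj.map (homOfLE hle).op (e a).1 = 0 := hres.symm
    refine (TopCat.Presheaf.germ_res_apply F.obj (homOfLE hle) x hxV' (e a).1).symm.trans ?_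
    rw [h3, map_zero]
    exact (map_zero _).symm
  | m + 1, F, hF, V, a, ha => by
    obtain ⟨S, hS, rfl, -, hJ⟩ := exists_embedding U F fun V => hF 0 (Nat.succ_pos m) V
    have hinj : ∀ (i : ℕ) (W : Opens X) (y : LocCohZ.HZ S.X₃ i (inf_le_left : W ⊓ U ≤ W)),
        y.comp hS.extClass rfl = 0 → y = 0 := fun i W y hy => by
      obtain ⟨z, rfl⟩ := Ext.covariant_sequence_exact₃ _ hS y (n₁ := i + 1) rfl hy
      haveI := hJ W i
      rw [Subsingleton.elim z 0, Ext.zero_comp]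
    have hsurj : ∀ (i : ℕ) (W : Opens X) (z : LocCohZ.HZ S.X₁ (i + 1) (inf_le_left : W ⊓ U ≤ W)),
        ∃ y : LocCohZ.HZ S.X₃ i (inf_le_left : W ⊓ U ≤ W), y.comp hS.extClass rfl = z := fun i W z => by
      haveI := hJ W (i + 1)
      exact Ext.covariant_sequence_exact₁ _ hS z (Subsingleton.elim _ _) rfl
    have hG : ∀ i < m, ∀ W : Opens X, Subsingleton (LocCohZ.HZ S.X₃ i (inf_le_left : W ⊓ U ≤ W)) := fun i hi W =>
      subsingleton_of_forall_eq 0 fun y => hinj i W y (by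
        haveI := hF (i + 1) (by omega) W
        exact Subsingleton.elim _ _)
    obtain ⟨b, rfl⟩ := hsurj m V a
    rw [separated m S.X₃ hG V b fun x hx => ?_, Ext.zero_comp]
    obtain ⟨V', hle, hxV', h0⟩ := ha x hx
    rw [resZ_extClass] at h0
    exact ⟨V', hle, hxV', hinj m V' _ h0⟩

theorem vanish_iff (F : CohTop.Ab X) : ∀ n : ℕ,
    (∀ i < n, IsZero ((LocCohZ.HZsh U i).obj F)) ↔
      ∀ i < n, ∀ V : Opens X, Subsingleton (LocCohZ.HZ F i (inf_le_left : V ⊓ U ≤ V))
  | 0 => by simp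
  | n + 1 => by
    constructor
    · intro hz
      have hprev := (vanish_iff F n).1 fun i hi => hz i (by omega)
      intro i hi V
      rcases Nat.lt_succ_iff_lt_or_eq.1 hi with hi | rfl
      · exact hprev i hi V
      · exact subsingleton_of_forall_eq 0 fun a => separated U i F hprev V a fun x hx =>
          locally_zero_of_isZero_HZsh U F i (hz i (by omega)) V a x hx
    · exact fun hv i hi => isZero_HZsh U F i (hv i hi)

/-- Classes of positive degree vanish locally. -/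
theorem HU_locally_zero : ∀ (i : ℕ) (F : CohTop.Ab X) (V : Opens X) (a : CohTop.HU F (i + 1) V) (x : X), x ∈ V →
    ∃ (V' : Opens X) (hle : V' ≤ V), x ∈ V' ∧ CohTop.res F (i + 1) hle a = 0 := by
  intro i
  induction i with
  | zero =>
    intro F V a x hx
    obtain ⟨⟨E, hE, ι, hι⟩⟩ := EnoughInjectives.presentation F
    have hS : (ShortComplex.mk ι (cokernel.π ι) (cokernel.condition ι)).ShortExact :=
      { exact := ShortComplex.exact_of_g_is_cokernel _ (cokernelIsCokernel ι) }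
    obtain ⟨b, hb⟩ := Ext.covariant_sequence_exact₁ _ hS (a : Ext _ F 1)
      (by haveI := hE; exact Ext.eq_zero_of_injective _) (n₀ := 0) rfl
    obtain ⟨φ, rfl⟩ := (Ext.mk₀_bijective _ _).2 b
    have hsurj := (TopCat.Presheaf.isLocallySurjective_iff _).1
      ((TopCat.Sheaf.isLocallySurjective_iff_epi (cokernel.π ι)).2 inferInstance) V
      (CohFree.evalGen JX V _ φ) x hx
    obtain ⟨V', hle, ⟨t, ht⟩, hxV'⟩ := hsurj
    refine ⟨V', hle, hxV', ?_⟩
    have hψ : CohCx.freeSheafMap JX (homOfLE hle) ≫ φ = CohFree.ofSect JX V' E t ≫ cokernel.π ι := by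
      apply (CohFree.homEquivSect JX V' _).injective
      rw [CohFree.homEquivSect_apply, CohFree.homEquivSect_apply, CohFree.evalGen_freeSheafMap_comp]
      exact ht.symm.trans
        (congrArg (fun s => ((cokernel.π ι).hom.app (op V')).hom s) (CohFree.evalGen_ofSect JX V' E t)).symm
    show (Ext.mk₀ (CohCx.freeSheafMap JX (homOfLE hle))).comp a (zero_add 1) = 0
    rw [← hb, Ext.mk₀_comp_mk₀_assoc, hψ, ← Ext.mk₀_comp_mk₀,
      Ext.comp_assoc (a₁₂ := 0) (a₂₃ := 1) _ _ _ (zero_add 0) (zero_add 1) (by omega)]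
    rw [hS.comp_extClass, Ext.comp_zero]
  | succ i ih =>
    intro F V a x hx
    obtain ⟨⟨E, hE, ι, hι⟩⟩ := EnoughInjectives.presentation F
    have hS : (ShortComplex.mk ι (cokernel.π ι) (cokernel.condition ι)).ShortExact :=
      { exact := ShortComplex.exact_of_g_is_cokernel _ (cokernelIsCokernel ι) }
    obtain ⟨b, hb⟩ := Ext.covariant_sequence_exact₁ _ hS (a : Ext _ F (i + 1 + 1))
      (by haveI := hE; exact Ext.eq_zero_of_injective _) (n₀ := i + 1) rfl
    obtain ⟨V', hle, hxV', h0⟩ := ih _ V b x hx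
    refine ⟨V', hle, hxV', ?_⟩
    show (Ext.mk₀ (CohCx.freeSheafMap JX (homOfLE hle))).comp a (zero_add (i + 1 + 1)) = 0
    rw [← hb, ← Ext.comp_assoc (a₁₂ := i + 1) (a₂₃ := i + 1 + 1) _ _ _ (zero_add (i + 1)) rfl (by omega)]
    change (CohTop.res _ (i + 1) hle b).comp hS.extClass _ = 0
    rw [h0, Ext.zero_comp]

theorem toHU_resZ (F : CohTop.Ab X) (i : ℕ) {W V W' V' : Opens X} (h : W ≤ V) (h' : W' ≤ V') (hW : W' ≤ W)
    (hV : V' ≤ V) (a : LocCohZ.HZ F i h) :
    LocCohZ.toHU F i h' (LocCohZ.resZ F i h h' hW hV a) = CohTop.res F i hV (LocCohZ.toHU F i h a) := by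
  show (Ext.mk₀ (cokernel.π _)).comp ((Ext.mk₀ (LocCohZ.zqMap h h' hW hV)).comp a (zero_add i)) (zero_add i) =
    (Ext.mk₀ (CohCx.freeSheafMap JX (homOfLE hV))).comp ((Ext.mk₀ (cokernel.π _)).comp a (zero_add i)) (zero_add i)
  rw [Ext.mk₀_comp_mk₀_assoc, Ext.mk₀_comp_mk₀_assoc]
  congr 2
  rw [LocCohZ.zqMap, cokernel.π_desc]

/-- Injectivity in degree `N` is automatic. -/
theorem vanish_of_bijective (F : CohTop.Ab X) (N : ℕ) (hN : 0 < N)
    (h : ∀ (V : Opens X) (i : ℕ), i < N → Function.Bijective (CohTop.res F i (inf_le_left : V ⊓ U ≤ V))) :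
    ∀ i ≤ N, ∀ V : Opens X, Subsingleton (LocCohZ.HZ F i (inf_le_left : V ⊓ U ≤ V)) := by
  obtain ⟨M, rfl⟩ : ∃ M, N = M + 1 := ⟨N - 1, by omega⟩
  have hlt : ∀ i < M + 1, ∀ V : Opens X, Subsingleton (LocCohZ.HZ F i (inf_le_left : V ⊓ U ≤ V)) := fun i hi V =>
    (vanish_le_iff F (inf_le_left : V ⊓ U ≤ V) i).2 ⟨fun j hj => h V j (by omega), (h V i hi).1⟩ i le_rfl
  intro i hi V
  rcases hi.lt_or_eq with hi | rfl
  · exact hlt i hi V
  refine subsingleton_of_forall_eq 0 fun a => separated U (M + 1) F hlt V a fun x hx => ?_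
  obtain ⟨V', hle, hxV', h0⟩ := HU_locally_zero M F V (LocCohZ.toHU F (M + 1) _ a) x hx
  refine ⟨V', hle, hxV', ?_⟩
  rw [← toHU_resZ F (M + 1) (inf_le_left : V ⊓ U ≤ V) (inf_le_left : V' ⊓ U ≤ V') (inf_le_inf_right U hle) hle a] at h0
  obtain ⟨z, hz⟩ := (exact_delta_toHU F (inf_le_left : V' ⊓ U ≤ V') _).1 h0
  rw [← hz]
  exact (exact_HU_res F _ z).2 ((h V' M (by omega)).2 z)

end Groth.Agent.H1LCZ

end
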