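import Groth.Agent.H1LCZ.InjFlasque
import Groth.Agent.S6023
import Groth.Agent.LC.Depth
import Groth.Agent.QCoh.HHExact
import Groth.Agent.QCoh.Tilde

/-!
# Cohomology with supports of the sheaf of a module and local cohomology: vanishing
-/

set_option autoImplicit false
set_option linter.style.haveILetI false
set_option backward.isDefEq.respectTransparency false
set_option backward.isDefEq.respectTransparency.types false

universe u

open CategoryTheory CategoryTheory.Limits AlgebraicGeometry TopologicalSpace Opposite CategoryTheory.Abelian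

noncomputable section

namespace Groth.Agent.H1LCZ

open Groth.Agent

theorem torsionSub_eq_bot_iff {A : Type u} [CommRing A] (I : Ideal A) (M : Type u) [AddCommGroup M] [Module A M] :
    DRing.torsionSub I M = ⊥ ↔ ∀ m : M, (∃ n : ℕ, ∀ b ∈ I ^ n, b • m = 0) → m = 0 :=
  (Submodule.eq_bot_iff _).trans Iff.rfl

variable {R : CommRingCat.{u}} [IsNoetherianRing R] (I : Ideal R) (U : (Spec R).Opens)
  (hU : (show Set (PrimeSpectrum R) from U.carrier) = (PrimeSpectrum.zeroLocus (I : Set R))ᶜ)

/-- Cohomology with supports of the sheaf of a module. -/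
abbrev HT (N : ModuleCat.{u} R) (i : ℕ) : Type u :=
  LocCohZ.HZ (X := (Spec R).carrier) (Coh.toAb (tilde N)) i (le_top : U ≤ ⊤)

include hU in
theorem HT_zero_iff (N : ModuleCat.{u} R) :
    Subsingleton (HT U N 0) ↔ DRing.torsionSub I N = ⊥ := by
  rw [torsionSub_eq_bot_iff]
  have e := (LocCohZ.sect0Equiv (X := (Spec R).carrier) (Coh.toAb (tilde N)) (le_top : U ≤ ⊤)).toEquiv
  have hres : ∀ m : N, ((Coh.toAb (tilde N)).obj.map (homOfLE (le_top : U ≤ ⊤)).op).hom
      ((tilde.toOpen N ⊤).hom m) = (tilde.toOpen N U).hom m := fun m =>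
    congr(($(tilde.toOpen_res N ⊤ U (homOfLE le_top))).hom m)
  have hb : Function.Bijective (tilde.toOpen N (⊤ : (Spec R).Opens)).hom :=
    ConcreteCategory.bijective_of_isIso (tilde.toOpen N (⊤ : (Spec R).Opens))
  constructor
  · intro h m hm
    haveI := e.symm.subsingleton
    have hk : m ∈ LinearMap.ker (tilde.toOpen N U).hom := by
      rw [H1Punct.ker_toOpen N I U hU, H1Punct.mem_iSup_torsion]
      exact hm
    refine hb.1 ?_
    have h0 : ((Coh.toAb (tilde N)).obj.map (homOfLE (le_top : U ≤ ⊤)).op).hom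
        ((tilde.toOpen N ⊤).hom m) = 0 := (hres m).trans hk
    have := congrArg Subtype.val (Subsingleton.elim
      (⟨(tilde.toOpen N ⊤).hom m, h0⟩ :
        LocCohZ.sectZ (X := (Spec R).carrier) (Coh.toAb (tilde N)) (le_top : U ≤ ⊤)) 0)
    exact this.trans (map_zero (tilde.toOpen N ⊤).hom).symm
  · intro h
    refine (e.subsingleton_congr).2 (subsingleton_of_forall_eq 0 fun s => Subtype.ext ?_)
    obtain ⟨m, hm⟩ := hb.2 s.1
    have hk : m ∈ LinearMap.ker (tilde.toOpen N U).hom := by
      rw [LinearMap.mem_ker, ← hres m, hm]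
      exact s.2
    rw [H1Punct.ker_toOpen N I U hU, H1Punct.mem_iSup_torsion] at hk
    rw [← hm, h m hk]
    exact map_zero _

omit [IsNoetherianRing R] in
theorem shortExact_tilde_toAb {S : ShortComplex (ModuleCat.{u} R)} (hS : S.ShortExact) :
    ((S.map (tilde.functor R)).map (QCoh.toAbFunctor (Spec R))).ShortExact :=
  QCoh.toAb_shortExact (hS.map_of_exact _)

include hU in
theorem HT_injective (N : ModuleCat.{u} R) [Injective N] (h : DRing.torsionSub I N = ⊥) (i : ℕ) :
    Subsingleton (HT U N i) := by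
  haveI : Module.Injective R N := Module.injective_module_of_injective_object R N
  haveI := isFlasque_tilde N
  rcases i with _ | i
  · exact (HT_zero_iff I U hU N).2 h
  · exact (S6023.result (X := (Spec R).carrier) (Coh.toAb (tilde N))).1 U ⊤ le_top (i + 1) (Nat.succ_pos _)

theorem subsingleton_ext_shift_iff {C : Type*} [Category.{u} C] [Abelian C] [HasExt.{u} C] {T : ShortComplex C}
    (hT : T.ShortExact) (Q : C) (h : ∀ i, Subsingleton (Ext Q T.X₂ i)) (i : ℕ) :
    Subsingleton (Ext Q T.X₃ i) ↔ Subsingleton (Ext Q T.X₁ (i + 1)) := by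
  constructor
  · intro _
    refine subsingleton_of_forall_eq 0 fun x => ?_
    haveI := h (i + 1)
    obtain ⟨y, rfl⟩ := Ext.covariant_sequence_exact₁ Q hT x (Subsingleton.elim _ _) (n₀ := i) rfl
    rw [Subsingleton.elim y 0, Ext.zero_comp]
  · intro _
    refine subsingleton_of_forall_eq 0 fun x => ?_
    obtain ⟨y, rfl⟩ := Ext.covariant_sequence_exact₃ Q hT x rfl (Subsingleton.elim _ _)
    haveI := h i
    rw [Subsingleton.elim y 0, Ext.zero_comp]

omit [IsNoetherianRing R] in
theorem HT_shift_iff {S : ShortComplex (ModuleCat.{u} R)} (hS : S.ShortExact)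
    (h : ∀ i, Subsingleton (HT U S.X₂ i)) (i : ℕ) :
    Subsingleton (HT U S.X₃ i) ↔ Subsingleton (HT U S.X₁ (i + 1)) := by
  let T : ShortComplex (CohTop.Ab (Spec R).carrier) :=
    (S.map (tilde.functor R)).map (QCoh.toAbFunctor (Spec R))
  have hT : T.ShortExact := shortExact_tilde_toAb hS
  exact subsingleton_ext_shift_iff (T := T) hT (LocCohZ.zq (X := (Spec R).carrier) (le_top : U ≤ ⊤)) h i

include hU in
/-- Vanishing of cohomology with supports is vanishing of local cohomology. -/
theorem HT_vanish_iff (n : ℕ) : ∀ N : ModuleCat.{u} R,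
    (∀ i < n, Subsingleton (HT U N i)) ↔ ∀ i < n, Subsingleton ((localCohomology I i).obj N) := by
  induction n with
  | zero => simp
  | succ n ih =>
    intro N
    by_cases h0 : DRing.torsionSub I N = ⊥
    swap
    · constructor
      · exact fun h => absurd ((HT_zero_iff I U hU N).1 (h 0 (Nat.succ_pos n))) h0
      · exact fun h => absurd ((LC.subsingleton_H0_iff I N).1 (h 0 (Nat.succ_pos n))) h0
    obtain ⟨S, hS, rfl, hinj, hE⟩ := LC.exists_torsionFree_seq I N h0
    haveI := hinj
    have h2 : ∀ i, Subsingleton (HT U S.X₂ i) := HT_injective I U hU S.X₂ hE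
    have h1 : ∀ i, Subsingleton (HT U S.X₃ i) ↔ Subsingleton (HT U S.X₁ (i + 1)) := fun i =>
      HT_shift_iff U hS h2 i
    have hrec : (∀ i < n + 1, Subsingleton (HT U S.X₁ i)) ↔ ∀ i < n, Subsingleton (HT U S.X₃ i) := by
      refine ⟨fun h i hi => (h1 i).2 (h (i + 1) (by omega)), fun h i hi => ?_⟩
      rcases i with _ | i
      · exact (HT_zero_iff I U hU S.X₁).2 h0
      · exact (h1 i).1 (h i (by omega))
    have h3 : ∀ i, Subsingleton ((localCohomology I i).obj S.X₃) ↔
        Subsingleton ((localCohomology I (i + 1)).obj S.X₁) := by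
      intro i
      haveI hz : Subsingleton ((localCohomology I i).obj S.X₂) := by
        rcases i with _ | i
        · exact (LC.subsingleton_H0_iff I S.X₂).2 hE
        · exact LC.subsingleton_of_injective I S.X₂ i
      haveI hz' := LC.subsingleton_of_injective I S.X₂ i
      constructor
      · intro _
        refine subsingleton_of_forall_eq 0 fun z => ?_
        obtain ⟨w, rfl⟩ := (LC.exact₁ I i hS (i + 1) rfl z).1 (Subsingleton.elim _ _)
        rw [Subsingleton.elim w 0, map_zero]
      · intro _
        refine subsingleton_of_forall_eq 0 fun z => ?_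
        obtain ⟨w, rfl⟩ := (LC.exact₃ I i hS (i + 1) rfl z).1 (Subsingleton.elim _ _)
        rw [Subsingleton.elim w 0, map_zero]
    rw [hrec, ih S.X₃]
    refine ⟨fun h i hi => ?_, fun h i hi => (h3 i).2 (h (i + 1) (by omega))⟩
    rcases i with _ | i
    · exact (LC.subsingleton_H0_iff I S.X₁).2 h0
    · exact (h3 i).1 (h i (by omega))

include hU in
/-- The depth criterion on an affine scheme. -/
theorem HT_vanish_iff_depth (N : ModuleCat.{u} R) [Module.Finite R N] (n : ℕ) :
    (∀ i < n, Subsingleton (HT U N i)) ↔ (n : ℕ∞) ≤ LocCoh.idealDepth I N := by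
  rw [HT_vanish_iff I U hU n N, LC.le_idealDepth_iff_H]

end Groth.Agent.H1LCZ

end
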