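import Groth.Agent.H1LCZ.Affine
import Groth.Agent.H1LCZ.Open
import Groth.Agent.H1LCZ.Shift
import Groth.Agent.LC.DepthLoc
import Groth.Agent.Alg6.LocLoc
import Groth.Agent.QCoh.Support
import Groth.Agent.QCoh.FT
import Groth.Agent.QCoh.Stalk
import Groth.Agent.QCoh.PullbackBC

/-!
# Vanishing of sheaves of local cohomology and depth
-/

set_option autoImplicit false
set_option linter.style.haveILetI false
set_option backward.isDefEq.respectTransparency false
set_option backward.isDefEq.respectTransparency.types false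

universe u

open CategoryTheory CategoryTheory.Limits AlgebraicGeometry TopologicalSpace Opposite CategoryTheory.Abelian

noncomputable section

namespace Groth.Agent.H1LCZ

open Groth.Agent

theorem subsingleton_HZ_congr {X : TopCat.{u}} {F G : CohTop.Ab X} (e : F ≅ G) {W V : Opens X} (h : W ≤ V) (i : ℕ) :
    Subsingleton (LocCohZ.HZ F i h) ↔ Subsingleton (LocCohZ.HZ G i h) :=
  (((Abelian.extFunctor i).obj (op (LocCohZ.zq h))).mapIso e).addCommGroupIsoToAddEquiv.toEquiv.subsingleton_congr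

variable {X : Scheme.{u}}

theorem fromSpec_image_preimage {V : X.Opens} (hV : IsAffineOpen V) (U : X.Opens) :
    hV.fromSpec ''ᵁ (hV.fromSpec ⁻¹ᵁ U) = V ⊓ U := by
  rw [Scheme.Hom.image_preimage_eq_opensRange_inf, hV.opensRange_fromSpec]

/-- Vanishing of cohomology with supports on an affine open is a condition on the depths. -/
theorem affine_vanish_iff [IsLocallyNoetherian X] (M : X.Modules) (hM : Coh.IsCoh M) {V : X.Opens}
    (hV : IsAffineOpen V) (U : X.Opens) (n : ℕ) :
    (∀ i < n, Subsingleton (LocCohZ.HZ (X := X.carrier) (Coh.toAb M) i (inf_le_left : V ⊓ U ≤ V))) ↔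
      ∀ x : X, x ∈ V → x ∉ (U : Set X) →
        (n : ℕ∞) ≤ LocCoh.depth (X.presheaf.stalk x) (M.presheaf.stalk x) := by
  haveI : IsNoetherianRing Γ(X, V) := IsLocallyNoetherian.component_noetherian ⟨V, hV⟩
  let j := hV.fromSpec
  let U' : (Spec Γ(X, V)).Opens := j ⁻¹ᵁ U
  obtain ⟨I, hI⟩ := (PrimeSpectrum.isClosed_iff_zeroLocus_ideal _).1 U'.2.isClosed_compl
  have hU : (show Set (PrimeSpectrum Γ(X, V)) from U'.carrier) = (PrimeSpectrum.zeroLocus (I : Set Γ(X, V)))ᶜ :=
    (compl_compl (show Set (PrimeSpectrum Γ(X, V)) from U'.carrier)).symm.trans (congrArg compl hI)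
  let N : ModuleCat.{u} Γ(X, V) := moduleSpecΓFunctor.obj (M.restrict j)
  haveI : IsIso (M.restrict j).fromTildeΓ :=
    isQuasicoherent_iff_isIso_fromTildeΓ _ |>.1 (QCoh.isQCoh_restrict j hM.1)
  let ε := QCoh.chartEquiv hV M
  haveI := QCoh.finite_sections hM hV
  haveI : Module.Finite Γ(X, V) N := Module.Finite.equiv ε
  let eAb : Coh.toAb (tilde N) ≅ (QCoh.Ab.restr j.isOpenEmbedding).obj (Coh.toAb M) :=
    (SheafOfModules.toSheaf (Spec Γ(X, V)).ringCatSheaf).mapIso (asIso (M.restrict j).fromTildeΓ)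
  have hHT : ∀ i, Subsingleton (LocCohZ.HZ (X := X.carrier) (Coh.toAb M) i (inf_le_left : V ⊓ U ≤ V)) ↔
      Subsingleton (HT U' N i) := by
    intro i
    obtain ⟨e⟩ := nonempty_HZ_restr (X := X.carrier) (Y := (Spec Γ(X, V)).carrier) j.isOpenEmbedding
      (le_top : U' ≤ ⊤) (inf_le_left : V ⊓ U ≤ V) (fromSpec_image_preimage hV U)
      (QCoh.image_top_fromSpec hV) (Coh.toAb M) i
    exact e.toEquiv.subsingleton_congr.trans (subsingleton_HZ_congr (X := (Spec Γ(X, V)).carrier) eAb _ i).symm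
  simp only [hHT]
  rw [HT_vanish_iff_depth I U' hU N n, ← LC.idealDepth_congr I ε, LC.idealDepth_eq_iInf_depth I, le_iInf₂_iff]
  have key : ∀ (x : X) (hx : x ∈ V),
      LocCoh.depth (X.presheaf.stalk x) (M.presheaf.stalk x) =
        LocCoh.depth (Localization.AtPrime (hV.primeIdealOf ⟨x, hx⟩).asIdeal)
          (LocalizedModule (hV.primeIdealOf ⟨x, hx⟩).asIdeal.primeCompl Γ(M, V)) := by
    intro x hx
    letI := QCoh.stalkAlg (X := X) hx
    letI := QCoh.stalkModule M hx
    haveI := QCoh.isScalarTower_stalk M hx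
    haveI := QCoh.isLocalization_stalk' hV hx
    haveI := QCoh.isLocalizedModule_germLin hM.1 hV hx
    exact Alg6.depth_localized_eq _ _ (QCoh.germLin M hx)
  have hmem : ∀ (x : X) (hx : x ∈ V), I ≤ (hV.primeIdealOf ⟨x, hx⟩).asIdeal ↔ x ∉ (U : Set X) := by
    intro x hx
    refine Iff.trans (PrimeSpectrum.mem_zeroLocus _ _).symm ?_
    rw [← hI]
    show ¬ (j (hV.primeIdealOf ⟨x, hx⟩) ∈ (U : Set X)) ↔ _
    rw [hV.fromSpec_primeIdealOf ⟨x, hx⟩]
  constructor
  · intro h x hx hxU
    rw [key x hx]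
    exact h _ ((hmem x hx).2 hxU)
  · intro h p hp
    have hx : j p ∈ V := hV.opensRange_fromSpec.le (Set.mem_range_self p)
    have hp' : hV.primeIdealOf ⟨j p, hx⟩ = p :=
      j.isOpenEmbedding.injective (hV.fromSpec_primeIdealOf ⟨j p, hx⟩)
    rw [← hp'] at hp ⊢
    exact le_of_le_of_eq (h (j p) hx ((hmem (j p) hx).1 hp)) (key (j p) hx)

/-- A local cohomology sheaf vanishes if the local groups on a basis do. -/
theorem isZero_HZsh_of_basis {Z : TopCat.{u}} (U : Opens Z) (F : CohTop.Ab Z) (q : ℕ) {B : Set (Opens Z)}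
    (hB : Opens.IsBasis B) (h : ∀ V ∈ B, Subsingleton (LocCohZ.HZ F q (inf_le_left : V ⊓ U ≤ V))) :
    IsZero ((LocCohZ.HZsh U q).obj F) := by
  obtain ⟨e⟩ := nonempty_HZsh_iso U F q
  refine IsZero.of_iso ?_ e
  let J := Opens.grothendieckTopology Z
  let G : (Opens Z)ᵒᵖ ⥤ AddCommGrpCat.{u} := (SiteBase.HomPres.extPsh (P U) q).obj F
  have h0 : toSheafify J G = 0 := by
    ext A s
    have hsh : TopCat.Presheaf.IsSheaf (sheafify J G : TopCat.Presheaf AddCommGrpCat.{u} Z) :=
      ((presheafToSheaf J AddCommGrpCat.{u}).obj G).property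
    refine TopCat.Presheaf.section_ext ⟨sheafify J G, hsh⟩ A.unop _ _ fun y hy => ?_
    obtain ⟨W, hW, hyW, hWA⟩ := Opens.isBasis_iff_nbhd.1 hB hy
    haveI : Subsingleton (G.obj (op W)) := h W hW
    rw [← TopCat.Presheaf.germ_res_apply (F := (sheafify J G : TopCat.Presheaf AddCommGrpCat.{u} Z))
      (homOfLE hWA) y hyW]
    have hn : (sheafify J G).map (homOfLE hWA).op ((toSheafify J G).app A s) =
        (toSheafify J G).app (op W) (G.map (homOfLE hWA).op s) :=
      (ConcreteCategory.congr_hom ((toSheafify J G).naturality (homOfLE hWA).op) s).symm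
    refine (congrArg _ hn).trans ?_
    rw [Subsingleton.elim (G.map (homOfLE hWA).op s) 0, map_zero, map_zero]
    exact (map_zero _).symm
  show IsZero ((presheafToSheaf J AddCommGrpCat.{u}).obj G)
  rw [IsZero.iff_id_eq_zero]
  refine Sheaf.hom_ext (sheafify_hom_ext J _ _ ((presheafToSheaf J AddCommGrpCat.{u}).obj G).property ?_)
  show toSheafify J G ≫ 𝟙 _ = toSheafify J G ≫ 0
  rw [h0, zero_comp, zero_comp]

end Groth.Agent.H1LCZ

end
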