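import Groth.Agent.H1LCZ.Basic
import Groth.Agent.SiteBase.DerivedKernel
import Groth.Agent.SiteBase.DerivedPrecomp
import Groth.Agent.SiteBase.ExtByZero
import Groth.Agent.SiteBase.Rpush
import Mathlib.Topology.Sheaves.Flasque
import Mathlib.CategoryTheory.Preadditive.LeftExact

/-!
# Sheaves of local cohomology and higher direct images of the restriction
-/

set_option autoImplicit false
set_option linter.style.haveILetI false
set_option backward.isDefEq.respectTransparency false

universe u

open CategoryTheory CategoryTheory.Limits Opposite TopologicalSpace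

noncomputable section

namespace Groth.Agent.H1LCZ

open Groth.Agent

variable {X : TopCat.{u}} (U : Opens X)

local notation "JX" => Opens.grothendieckTopology X

theorem isContinuous_map {A B : TopCat.{u}} (f : A ⟶ B) :
    (Opens.map f).IsContinuous (Opens.grothendieckTopology B) (Opens.grothendieckTopology A) :=
  inferInstance

/-- The pullback to an open subspace is the restriction. -/
def pullIsoRestr : CohTop.pull (CohCx.incl U) ≅ CohTop.restrFunctor U :=
  have H : Topology.IsOpenEmbedding (CohCx.incl U) := U.isOpenEmbedding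
  haveI := H.functor_isContinuous
  haveI : (Opens.map (CohCx.incl U)).IsContinuous (Opens.grothendieckTopology X)
      (Opens.grothendieckTopology (TopCat.of U)) :=
    isContinuous_map (CohCx.incl U)
  (TopCat.Sheaf.pullbackPushforwardAdjunction AddCommGrpCat.{u} (CohCx.incl U)).leftAdjointUniq
    (H.isOpenMap.adjunction.sheafPushforwardContinuous
      (Opens.grothendieckTopology (TopCat.of U)) (Opens.grothendieckTopology X))

instance preservesFiniteLimits_pull_incl : PreservesFiniteLimits (CohTop.pull (CohCx.incl U)) :=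
  haveI : (CohTop.restrFunctor U).IsRightAdjoint := ExtByZero.isRightAdjoint_restr U
  haveI : PreservesFiniteLimits (CohTop.restrFunctor U) :=
    haveI : PreservesLimitsOfSize.{0, 0} (CohTop.restrFunctor U) :=
      (Adjunction.ofIsRightAdjoint _).rightAdjoint_preservesLimits
    PreservesLimitsOfSize.preservesFiniteLimits _
  preservesFiniteLimits_of_natIso (pullIsoRestr U).symm

instance preservesFiniteColimits_restr : PreservesFiniteColimits (CohTop.restrFunctor U) :=
  haveI : PreservesFiniteColimits (CohTop.pull (CohCx.incl U)) :=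
    haveI : PreservesColimitsOfSize.{0, 0} (CohTop.pull (CohCx.incl U)) :=
      (TopCat.Sheaf.pullbackPushforwardAdjunction AddCommGrpCat.{u} (CohCx.incl U)).leftAdjoint_preservesColimits
    PreservesColimitsOfSize.preservesFiniteColimits _
  preservesFiniteColimits_of_natIso (pullIsoRestr U)

/-- The functor `F ↦ j_*(F|_U)`. -/
abbrev pullPush : CohTop.Ab X ⥤ CohTop.Ab X :=
  CohTop.pull (CohCx.incl U) ⋙ CohTop.push (CohCx.incl U)

instance preservesFiniteLimits_pullPush : PreservesFiniteLimits (pullPush U) :=
  haveI : PreservesFiniteLimits (CohTop.push (CohCx.incl U)) :=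
    haveI : PreservesLimitsOfSize.{0, 0} (CohTop.push (CohCx.incl U)) :=
      (TopCat.Sheaf.pullbackPushforwardAdjunction AddCommGrpCat.{u} (CohCx.incl U)).rightAdjoint_preservesLimits
    PreservesLimitsOfSize.preservesFiniteLimits _
  comp_preservesFiniteLimits _ _

instance additive_pullPush : (pullPush U).Additive := Functor.additive_of_preserves_binary_products _

/-- The kernel inclusion. -/
def ιSupp : LocCohZ.sectSuppF U ⟶ 𝟭 (CohTop.Ab X) where
  app F := kernel.ι ((TopCat.Sheaf.pullbackPushforwardAdjunction AddCommGrpCat.{u} (CohCx.incl U)).unit.app F)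
  naturality _ _ _ := kernel.lift_ι _ _ _

/-- The unit. -/
abbrev ηSupp : 𝟭 (CohTop.Ab X) ⟶ pullPush U :=
  (TopCat.Sheaf.pullbackPushforwardAdjunction AddCommGrpCat.{u} (CohCx.incl U)).unit

theorem wSupp (F : CohTop.Ab X) : (ιSupp U).app F ≫ (ηSupp U).app F = 0 := kernel.condition _

/-- The kernel. -/
def hkerSupp (F : CohTop.Ab X) : IsLimit (KernelFork.ofι ((ιSupp U).app F) (wSupp U F)) :=
  kernelIsKernel _

/-- The unit is surjective on sections of flasque sheaves. -/
theorem epi_unit_of_flasque (F : CohTop.Ab X) [TopCat.Sheaf.IsFlasque F] : Epi ((ηSupp U).app F) := by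
  let j := CohCx.incl U
  let η := (TopCat.Sheaf.pullbackPushforwardAdjunction AddCommGrpCat.{u} j).unit.app F
  let H := (TopCat.Sheaf.pullback AddCommGrpCat.{u} j).obj F
  let G := (TopCat.Sheaf.pushforward AddCommGrpCat.{u} j).obj H
  have hst : ∀ y : X, y ∈ U → Function.Bijective
      ((TopCat.Presheaf.stalkFunctor AddCommGrpCat.{u} y).map η.hom).hom := fun y hy => by
    haveI : IsIso ((TopCat.Presheaf.stalkFunctor AddCommGrpCat.{u} y).map η.hom) :=
      ClosedEmb.isIso_stalk_unit (U.isOpenEmbedding.isInducing : Topology.IsInducing j) F ⟨y, hy⟩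
    exact ConcreteCategory.bijective_of_isIso ((TopCat.Presheaf.stalkFunctor AddCommGrpCat.{u} y).map η.hom)
  haveI : ∀ V : (Opens X)ᵒᵖ, Epi (η.hom.app V) := fun V => by
    rw [AddCommGrpCat.epi_iff_surjective]
    intro t
    have hle : V.unop ⊓ U ≤ V.unop := inf_le_left
    obtain ⟨a, ha⟩ := TopCat.Presheaf.app_surjective_of_stalkFunctor_map_bijective η (V.unop ⊓ U)
      (fun y hy => hst y hy.2) (G.obj.map (homOfLE hle).op t)
    obtain ⟨b, hb⟩ := (AddCommGrpCat.epi_iff_surjective _).1
      (TopCat.Presheaf.IsFlasque.epi (F := F.obj) (homOfLE hle).op) a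
    refine ⟨b, sub_eq_zero.1 ?_⟩
    refine (SuppFamLib.res_eq_zero_iff H
      (show (Opens.map j).obj (V.unop ⊓ U) ≤ (Opens.map j).obj V.unop from fun y hy => hy.1)
      (fun y hy => ⟨hy, y.2⟩) _).1 ?_
    have hn : G.obj.map (homOfLE hle).op ((η.hom.app V).hom b) =
        (η.hom.app (op (V.unop ⊓ U))).hom (F.obj.map (homOfLE hle).op b) :=
      (ConcreteCategory.congr_hom (η.hom.naturality (homOfLE hle).op) b).symm
    refine (map_sub (G.obj.map (homOfLE hle).op).hom _ _).trans (sub_eq_zero.2 ?_)
    refine hn.trans ?_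
    refine Eq.trans ?_ ha
    exact congrArg _ hb
  haveI : Epi η.hom := NatTrans.epi_of_epi_app _
  exact (sheafToPresheaf JX AddCommGrpCat.{u}).epi_of_epi_map this

theorem epi_unit_of_injective (F : CohTop.Ab X) (hF : Injective F) : Epi ((ηSupp U).app F) := by
  haveI := SiteBase.isFlasque_of_injective F
  exact epi_unit_of_flasque U F

instance preservesFiniteLimits_sectSuppF : PreservesFiniteLimits (LocCohZ.sectSuppF U) := by
  refine (Functor.preservesFiniteLimits_iff_forall_exact_map_and_mono _).2 fun S hS => ?_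
  let D := SiteBase.snake (ιSupp U) (ηSupp U) (wSupp U) (hkerSupp U) hS
  have h : D.L₀.Exact := D.L₀_exact
  haveI : Mono D.L₁.f := hS.mono_f
  exact ⟨h, (inferInstance : Mono D.L₀.f)⟩

theorem nonempty_HZsh_one_iso : Nonempty (LocCohZ.HZsh U 1 ≅ cokernel (ηSupp U)) :=
  SiteBase.nonempty_rightDerived_one_iso (ιSupp U) (ηSupp U) (wSupp U) (hkerSupp U)
    (epi_unit_of_injective U)

theorem nonempty_HZsh_succ_iso (q : ℕ) :
    Nonempty (LocCohZ.HZsh U (q + 2) ≅ (pullPush U).rightDerived (q + 1)) :=
  SiteBase.nonempty_rightDerived_succ_iso (ιSupp U) (ηSupp U) (wSupp U) (hkerSupp U)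
    (epi_unit_of_injective U) q

theorem nonempty_pullPush_rightDerived_iso (q : ℕ) :
    Nonempty ((pullPush U).rightDerived q ≅
      CohTop.pull (CohCx.incl U) ⋙ CohTop.Rpush (CohCx.incl U) q) := by
  haveI : (CohTop.restrFunctor U).IsRightAdjoint := ExtByZero.isRightAdjoint_restr U
  haveI : PreservesFiniteLimits (CohTop.restrFunctor U) :=
    preservesFiniteLimits_of_natIso (pullIsoRestr U)
  haveI := ExtByZero.preservesFiniteLimits_ext0 U
  haveI : (CohTop.restrFunctor U).PreservesInjectiveObjects :=
    ⟨fun {I} hI => (ExtByZero.adj U).map_injective I hI⟩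
  haveI : (CohTop.push (CohCx.incl U)).Additive := { }
  haveI : (CohTop.restrFunctor U ⋙ CohTop.push (CohCx.incl U)).Additive := inferInstance
  exact ⟨SiteBase.rightDerivedCongr (Functor.isoWhiskerRight (pullIsoRestr U) _) q ≪≫
    SiteBase.rightDerivedPrecompIso (CohTop.restrFunctor U) (CohTop.push (CohCx.incl U)) q ≪≫
    Functor.isoWhiskerRight (pullIsoRestr U).symm _⟩

end Groth.Agent.H1LCZ

end
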