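import Groth.Agent.H1LCZ.Open
import Groth.Agent.SiteBase.UnivDelta
import Groth.Agent.SiteBase.EdgeZero

/-!
# Natural excision for cohomology with supports
-/

set_option autoImplicit false
set_option linter.style.haveILetI false
set_option backward.isDefEq.respectTransparency false

universe u

open CategoryTheory CategoryTheory.Limits Opposite TopologicalSpace Topology CategoryTheory.Abelian

noncomputable section

namespace Groth.Agent.H1LCZ

open Groth.Agent

/-- Ext out of an object composed with an exact functor, as a connected sequence. -/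
def extSeq {A : Type*} [Category A] [Abelian A] {B : Type*} [Category.{u} B] [Abelian B] [HasExt.{u} B]
    (E : A ⥤ B) [E.PreservesZeroMorphisms] (hE : ∀ S : ShortComplex A, S.ShortExact → (S.map E).ShortExact)
    (P : B) : SiteBase.ConnSeq.{u} A where
  F p := E ⋙ Abelian.extFunctorObj P p
  δ hS p := AddCommGrpCat.ofHom ((hE _ hS).extClass.postcomp P rfl)
  δ_natural {S T} hS hT φ p := AddCommGrpCat.hom_ext <| AddMonoidHom.ext fun x => by
    exact SiteBase.Edge.postcomp_extClass_natural P (hE _ hS) (hE _ hT) (E.mapShortComplex.map φ) p x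
  map_comp_δ {S} hS p := AddCommGrpCat.hom_ext <| AddMonoidHom.ext fun x => by
    exact SiteBase.Edge.postcomp_extClass_zero P (hE _ hS) p x

theorem extSeq_effaced {A : Type*} [Category A] [Abelian A] {B : Type*} [Category.{u} B] [Abelian B]
    [HasExt.{u} B] (E : A ⥤ B) [E.PreservesZeroMorphisms]
    (hE : ∀ S : ShortComplex A, S.ShortExact → (S.map E).ShortExact) (P : B)
    (hI : ∀ I : A, Injective I → ∀ q : ℕ, Subsingleton (Ext P (E.obj I) (q + 1))) :
    (extSeq E hE P).Effaced := by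
  intro S hS hI' p
  refine ⟨fun z => ?_, fun x hx => ?_⟩
  · obtain ⟨y, hy⟩ := Ext.covariant_sequence_exact₁ P (hE _ hS) z
      (@Subsingleton.elim _ (hI _ hI' p) _ _) (n₀ := p) rfl
    exact ⟨y, hy⟩
  · obtain ⟨y, hy⟩ := Ext.covariant_sequence_exact₃ P (hE _ hS) x (n₁ := p + 1) rfl hx
    exact ⟨y, hy⟩

variable {X : TopCat.{u}}

/-- Cohomology with supports in an open subspace, naturally. -/
theorem exists_natural_restr {W V : Opens X} (h : W ≤ V) {Y : TopCat.{u}} {j : Y ⟶ X} (hj : IsOpenEmbedding j)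
    {W' V' : Opens Y} (h' : W' ≤ V') (hW : hj.isOpenMap.functor.obj W' = W)
    (hV : hj.isOpenMap.functor.obj V' = V) (i : ℕ) :
    Nonempty (Abelian.extFunctorObj (LocCohZ.zq h) i ≅
      QCoh.Ab.restr hj ⋙ Abelian.extFunctorObj (LocCohZ.zq h') i) := by
  subst hW hV
  let Q := LocCohZ.zq h'
  let H := extSeq (𝟭 (CohTop.Ab X)) (fun S hS => hS.map_of_exact _) (LocCohZ.zq h)
  let G := extSeq (QCoh.Ab.restr hj) (fun S hS => QCoh.Ab.restr_shortExact hj hS) Q
  have hH : H.Effaced := extSeq_effaced _ _ _ fun I hI q => by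
    haveI := hI
    exact (Ext.subsingleton_of_injective (LocCohZ.zq h) I q :)
  have hG : G.Effaced := extSeq_effaced _ _ _ fun I hI q => by
    haveI := hI
    haveI := SiteBase.isFlasque_of_injective I
    haveI := QCoh.Ab.isFlasque_restr hj I
    exact (S6023.result ((QCoh.Ab.restr hj).obj I)).1 W' V' h' (q + 1) (Nat.succ_pos _)
  let e : ∀ F : CohTop.Ab X, (H.F 0).obj F ≅ (G.F 0).obj F := fun F =>
    AddEquiv.toAddCommGrpIso (((LocCohZ.sect0Equiv F h).trans (sectRestrEquiv hj h' F)).trans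
      (LocCohZ.sect0Equiv ((QCoh.Ab.restr hj).obj F) h').symm)
  let e0 : H.F 0 ≅ G.F 0 := NatIso.ofComponents e fun {F₁ F₂} g => AddCommGrpCat.hom_ext <| AddMonoidHom.ext fun x => by
    obtain ⟨φ, rfl⟩ := Ext.addEquiv₀.symm.surjective x
    show (LocCohZ.sect0Equiv ((QCoh.Ab.restr hj).obj F₂) h').symm (sectRestrEquiv hj h' F₂
        (LocCohZ.sect0Equiv F₂ h ((Ext.addEquiv₀.symm φ).comp (Ext.mk₀ g) (add_zero 0)))) =
      ((LocCohZ.sect0Equiv ((QCoh.Ab.restr hj).obj F₁) h').symm (sectRestrEquiv hj h' F₁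
        (LocCohZ.sect0Equiv F₁ h (Ext.addEquiv₀.symm φ)))).comp (Ext.mk₀ ((QCoh.Ab.restr hj).map g)) (add_zero 0)
    obtain ⟨ψ, hψ⟩ := Ext.addEquiv₀.symm.surjective ((LocCohZ.sect0Equiv ((QCoh.Ab.restr hj).obj F₁) h').symm
      (sectRestrEquiv hj h' F₁ (LocCohZ.sect0Equiv F₁ h (Ext.addEquiv₀.symm φ))))
    rw [← hψ]
    show _ = (Ext.mk₀ ψ).comp (Ext.mk₀ _) (add_zero 0)
    rw [Ext.mk₀_comp_mk₀]
    apply (LocCohZ.sect0Equiv ((QCoh.Ab.restr hj).obj F₂) h').injective
    rw [AddEquiv.apply_symm_apply]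
    apply Subtype.ext
    have hψ' : (homSectEquiv ((QCoh.Ab.restr hj).obj F₁) h' ψ).1 = (homSectEquiv F₁ h φ).1 := by
      show (LocCohZ.sect0Equiv _ h' (Ext.addEquiv₀.symm ψ)).1 = _
      rw [hψ, AddEquiv.apply_symm_apply]
      rfl
    refine Eq.trans ?_ (homSectEquiv_comp h' ψ ((QCoh.Ab.restr hj).map g)).symm
    rw [hψ']
    show (LocCohZ.sect0Equiv F₂ h ((Ext.mk₀ φ).comp (Ext.mk₀ g) (add_zero 0))).1 = _
    rw [Ext.mk₀_comp_mk₀]
    exact homSectEquiv_comp h φ g
  obtain ⟨a, ha0, ha⟩ := SiteBase.ConnSeq.exists_hom hH e0.hom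
  obtain ⟨b, hb0, hb⟩ := SiteBase.ConnSeq.exists_hom hG e0.inv
  have hab : ∀ p, a p ≫ b p = 𝟙 _ := by
    refine SiteBase.ConnSeq.hom_unique hH (fun p => a p ≫ b p) (fun p => 𝟙 _) (fun S hS p => ?_)
      (fun S hS p => ?_) ?_
    · exact (Category.assoc _ _ _).symm.trans ((congrArg (fun t => t ≫ (b (p + 1)).app S.X₁) (ha S hS p)).trans
        ((Category.assoc _ _ _).trans ((congrArg (fun t => (a p).app S.X₃ ≫ t) (hb S hS p)).trans
          (Category.assoc _ _ _).symm)))
    · exact (Category.comp_id _).trans (Category.id_comp _).symm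
    · show a 0 ≫ b 0 = 𝟙 _
      rw [ha0, hb0, e0.hom_inv_id]
  have hba : ∀ p, b p ≫ a p = 𝟙 _ := by
    refine SiteBase.ConnSeq.hom_unique hG (fun p => b p ≫ a p) (fun p => 𝟙 _) (fun S hS p => ?_)
      (fun S hS p => ?_) ?_
    · exact (Category.assoc _ _ _).symm.trans ((congrArg (fun t => t ≫ (a (p + 1)).app S.X₁) (hb S hS p)).trans
        ((Category.assoc _ _ _).trans ((congrArg (fun t => (b p).app S.X₃ ≫ t) (ha S hS p)).trans
          (Category.assoc _ _ _).symm)))
    · exact (Category.comp_id _).trans (Category.id_comp _).symm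
    · show b 0 ≫ a 0 = 𝟙 _
      rw [ha0, hb0, e0.inv_hom_id]
  exact ⟨(Functor.leftUnitor _).symm ≪≫ ⟨a i, b i, hab i, hba i⟩⟩

end Groth.Agent.H1LCZ

end
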