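import Groth.Agent.H1Punct.Torsion
import Groth.Prelude.Def_LocCohZ
import Mathlib

/-!
# The sheaf of an injective module over a Noetherian ring is flasque
-/

set_option autoImplicit false
set_option linter.style.haveILetI false
set_option backward.isDefEq.respectTransparency false
set_option backward.isDefEq.respectTransparency.types false

universe u

open CategoryTheory AlgebraicGeometry TopologicalSpace Opposite

noncomputable section

namespace Groth.Agent.H1LCZ

open Groth.Agent

theorem exists_extension {A : Type u} [CommRing A] {N : Type u} [AddCommGroup N] [Module A N] [Module.Injective A N]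
    {X : Type u} [AddCommGroup X] [Module A X] (g : X →ₗ[A] A) (hg : Function.Injective g) (f : X →ₗ[A] N) :
    ∃ φ : A →ₗ[A] N, ∀ x, φ (g x) = f x :=
  Module.Injective.out g hg f

variable {R : CommRingCat.{u}} [IsNoetherianRing R] (N : ModuleCat.{u} R)

/-- Every section of the sheaf of an injective module is global. -/
theorem toOpen_surjective [Module.Injective R N] (U : (Spec R).Opens) :
    Function.Surjective (tilde.toOpen N U).hom := by
  obtain ⟨a, ha⟩ := (PrimeSpectrum.isClosed_iff_zeroLocus_ideal _).1 U.2.isClosed_compl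
  have hU : (show Set (PrimeSpectrum R) from U.carrier) = (PrimeSpectrum.zeroLocus (a : Set R))ᶜ := by
    exact (compl_compl (show Set (PrimeSpectrum R) from U.carrier)).symm.trans (congrArg compl ha)
  intro s
  let f := (tilde.toOpen N U).hom
  obtain ⟨n, hn⟩ := H1Punct.coker_torsion N a U hU s
  obtain ⟨gen, hgen⟩ := (a ^ n).fg_of_isNoetherianRing
  choose lift hlift using fun g : ↥(gen : Set R) => hn g.1 (hgen ▸ Ideal.subset_span g.2)
  let P : Submodule R (R × N) :=
    Submodule.span R (Set.range fun g : ↥(gen : Set R) => ((g.1, lift g) : R × N))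
  haveI : Module.Finite R P := Module.Finite.span_of_finite R (Set.finite_range _)
  have hP : ∀ p : R × N, p ∈ P → f p.2 = p.1 • s := by
    intro p hp
    have hle : P ≤ LinearMap.eqLocus (f.comp (LinearMap.snd R R N))
        ((LinearMap.toSpanSingleton R _ s).comp (LinearMap.fst R R N)) := by
      refine Submodule.span_le.2 ?_
      rintro _ ⟨g, rfl⟩
      exact hlift g
    exact hle hp
  let p₁ : P →ₗ[R] R := (LinearMap.fst R R N).comp P.subtype
  let p₂ : P →ₗ[R] N := (LinearMap.snd R R N).comp P.subtype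
  have hrange : LinearMap.range p₁ = a ^ n := by
    refine le_antisymm ?_ ?_
    · rw [LinearMap.range_comp, Submodule.range_subtype, Submodule.map_le_iff_le_comap]
      refine Submodule.span_le.2 ?_
      rintro _ ⟨g, rfl⟩
      exact hgen ▸ Ideal.subset_span g.2
    · rw [← hgen]
      refine Ideal.span_le.2 fun g hg => ?_
      exact ⟨⟨(g, lift ⟨g, hg⟩), Submodule.subset_span ⟨⟨g, hg⟩, rfl⟩⟩, rfl⟩
  let K : Submodule R P := LinearMap.ker p₁
  obtain ⟨l, hl⟩ : ∃ l : ℕ, ∀ z ∈ K, ∀ b ∈ a ^ l, b • z = 0 := by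
    have htors : ∀ z : K, ∃ l : ℕ, ∀ b ∈ a ^ l, b • (z : P) = 0 := by
      intro z
      have h1 : (z : P).1.1 = 0 := z.2
      have h2 : f (z : P).1.2 = 0 := by rw [hP _ (z : P).2, h1, zero_smul]
      have h3 : (z : P).1.2 ∈ LinearMap.ker f := h2
      rw [H1Punct.ker_toOpen N a U hU, H1Punct.mem_iSup_torsion] at h3
      obtain ⟨l, hl⟩ := h3
      refine ⟨l, fun b hb => Subtype.ext (Prod.ext ?_ (hl b hb))⟩
      show b • (z : P).1.1 = 0
      rw [h1, smul_zero]
    obtain ⟨sK, hsK⟩ := IsNoetherian.noetherian K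
    have hsub : ∀ x ∈ sK, x ∈ K := fun x hx => hsK ▸ Submodule.subset_span hx
    choose l hl using fun x : {x // x ∈ sK} => htors ⟨x.1, hsub x.1 x.2⟩
    refine ⟨∑ x, l x, fun z hz b hb => ?_⟩
    rw [← hsK] at hz
    induction hz using Submodule.span_induction with
    | mem x hx =>
      exact hl ⟨x, hx⟩ b (Ideal.pow_le_pow_right
        (Finset.single_le_sum (f := l) (fun _ _ => Nat.zero_le _) (Finset.mem_univ ⟨x, hx⟩)) hb)
    | zero => rw [smul_zero]
    | add x y _ _ hx hy => rw [smul_add, hx, hy, add_zero]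
    | smul c x _ hx => rw [smul_comm, hx, smul_zero]
  obtain ⟨c, hc⟩ := a.exists_pow_inf_eq_pow_smul K
  let Q : Submodule R P := a ^ (c + l) • ⊤
  have hinj : Function.Injective (p₁.comp Q.subtype) := by
    rw [injective_iff_map_eq_zero]
    intro q hq
    have hq' : (q : P) ∈ a ^ (c + l) • ⊤ ⊓ K := ⟨q.2, hq⟩
    rw [hc (c + l) (by omega)] at hq'
    refine Subtype.ext ((Submodule.mem_bot R).1 (Submodule.smul_le.2 (fun b hb z hz => ?_) hq'))
    rw [Submodule.mem_bot]
    exact hl z hz.2 b (by rwa [show c + l - c = l by omega] at hb)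
  obtain ⟨φ, hφ⟩ := exists_extension (A := (R : Type u)) (N := N) (X := Q) (p₁.comp Q.subtype) hinj (p₂.comp Q.subtype)
  refine ⟨φ 1, sub_eq_zero.1 (H1Punct.torsionFree N a U hU _ (n := c + l + n) fun b hb => ?_)⟩
  have hb' : b ∈ Submodule.map p₁ Q := by
    show b ∈ Submodule.map p₁ (a ^ (c + l) • ⊤)
    rw [Submodule.map_smul'', Submodule.map_top, hrange]
    rw [pow_add] at hb
    exact hb
  obtain ⟨q, hqQ, rfl⟩ := hb'
  rw [smul_sub, sub_eq_zero]
  show p₁ q • f (φ 1) = (q : R × N).1 • s
  refine Eq.trans ?_ (hP (q : R × N) q.2)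
  rw [← map_smul, ← map_smul, smul_eq_mul, mul_one]
  exact congrArg f (hφ ⟨q, hqQ⟩)

/-- The sheaf of an injective module over a Noetherian ring is flasque. -/
theorem isFlasque_tilde [Module.Injective R N] : TopCat.Sheaf.IsFlasque (Coh.toAb (tilde N)) where
  epi {A B} i := by
    rw [AddCommGrpCat.epi_iff_surjective]
    intro t
    obtain ⟨m, hm⟩ := toOpen_surjective N B.unop t
    refine ⟨(tilde.toOpen N A.unop).hom m, ?_⟩
    refine Eq.trans ?_ hm
    exact congr(($(tilde.toOpen_res N A.unop B.unop i.unop)).hom m)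

end Groth.Agent.H1LCZ

end
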