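import Groth.Agent.SiteBase.DerivedKernel
import Groth.Agent.QCoh.RpushGod
import Groth.Agent.QCoh.Tilde
import Groth.Agent.KFlatLib.Scheme.Grothendieck
import Groth.Prelude.Def_LocCohZ
import Mathlib.CategoryTheory.Preadditive.LeftExact

/-!
# Quasi-coherence of the sheaves of local cohomology
-/

set_option autoImplicit false
set_option linter.style.haveILetI false
set_option backward.isDefEq.respectTransparency false
set_option backward.isDefEq.respectTransparency.types false

universe u

open CategoryTheory CategoryTheory.Limits AlgebraicGeometry TopologicalSpace Opposite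

noncomputable section

namespace Groth.Agent.H1LCZ

open Groth.Agent

variable {U Y : Scheme.{u}} (j : U ⟶ Y) [IsOpenImmersion j]

/-- `M ↦ j_*(M|_U)`. -/
abbrev resPush : Y.Modules ⥤ Y.Modules :=
  Scheme.Modules.restrictFunctor j ⋙ Scheme.Modules.pushforward j

instance preservesFiniteLimits_resPush : PreservesFiniteLimits (resPush j) :=
  haveI := QCoh.preservesFiniteLimits_push j
  comp_preservesFiniteLimits _ _

instance additive_resPush : (resPush j).Additive := Functor.additive_of_preserves_binary_products _

/-- The kernel inclusion. -/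
def ιGammaZ : DCoh.gammaZ j ⟶ 𝟭 Y.Modules where
  app F := kernel.ι ((Scheme.Modules.restrictAdjunction j).unit.app F)
  naturality _ _ _ := kernel.lift_ι _ _ _

theorem wGammaZ (F : Y.Modules) :
    (ιGammaZ j).app F ≫ (Scheme.Modules.restrictAdjunction j).unit.app F = 0 := kernel.condition _

/-- The kernel. -/
def hkerGammaZ (F : Y.Modules) : IsLimit (KernelFork.ofι ((ιGammaZ j).app F) (wGammaZ j F)) :=
  kernelIsKernel _

theorem epi_unit_of_flasqueMod (I : Y.Modules) (hI : QCoh.IsFlasqueMod I) :
    Epi ((Scheme.Modules.restrictAdjunction j).unit.app I) := by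
  refine ⟨fun {L} a b e => Scheme.Modules.hom_ext _ _ fun V => ?_⟩
  ext x
  obtain ⟨y, hy⟩ := (AddCommGrpCat.epi_iff_surjective _).1
    (hI.epi (homOfLE (j.image_preimage_le V)).op) x
  obtain rfl : ((Scheme.Modules.restrictAdjunction j).unit.app I).app V y = x := hy
  exact congr(($e).app V y)

theorem epi_unit_of_injectiveMod (I : Y.Modules) (hI : Injective I) :
    Epi ((Scheme.Modules.restrictAdjunction j).unit.app I) :=
  haveI := hI
  epi_unit_of_flasqueMod j I (QCoh.isFlasqueMod_of_injective I)

theorem isFlasqueMod_restrict (I : Y.Modules) (hI : QCoh.IsFlasqueMod I) :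
    QCoh.IsFlasqueMod (I.restrict j) where
  epi i := hI.epi (j.opensFunctor.map i.unop).op

instance preservesFiniteLimits_gammaZ : PreservesFiniteLimits (DCoh.gammaZ j) := by
  refine (Functor.preservesFiniteLimits_iff_forall_exact_map_and_mono _).2 fun S hS => ?_
  let D := SiteBase.snake (ιGammaZ j) (Scheme.Modules.restrictAdjunction j).unit (wGammaZ j) (hkerGammaZ j) hS
  haveI : Mono D.L₁.f := hS.mono_f
  exact ⟨D.L₀_exact, (inferInstance : Mono D.L₀.f)⟩

/-- The derived functors of `M ↦ j_*(M|_U)` are higher direct images of the restriction. -/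
theorem nonempty_resPush_iso [HasInjectiveResolutions Y.Modules] [HasInjectiveResolutions U.Modules]
    (p : ℕ) : ∀ M : Y.Modules,
    Nonempty (((resPush j).rightDerived (p + 1)).obj M ≅ (Coh.Rpush j (p + 1)).obj (M.restrict j)) := by
  haveI := SpObjSS.enoughInjectives_of_hasInjectiveResolutions (C := Y.Modules)
  haveI := SpObjSS.enoughInjectives_of_hasInjectiveResolutions (C := U.Modules)
  haveI := QCoh.preservesFiniteLimits_push j
  haveI : PreservesFiniteColimits (Scheme.Modules.restrictFunctor j) :=
    haveI : PreservesColimitsOfSize.{0, 0} (Scheme.Modules.restrictFunctor j) :=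
      (Scheme.Modules.restrictAdjunction j).leftAdjoint_preservesColimits
    PreservesColimitsOfSize.preservesFiniteColimits _
  haveI : (Scheme.Modules.restrictFunctor j).Additive := Functor.additive_of_preserves_binary_products _
  have hac : ∀ (I : Y.Modules), Injective I → ∀ n : ℕ,
      IsZero (((Scheme.Modules.pushforward j).rightDerived (n + 1)).obj (I.restrict j)) := fun I hI n =>
    haveI := hI
    QCoh.isZero_Rpush_of_flasque j _ (isFlasqueMod_restrict j I (QCoh.isFlasqueMod_of_injective I)) n
  induction p with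
  | zero =>
    intro M
    have key : ∀ S : ShortComplex Y.Modules, S.ShortExact → Injective S.X₂ →
        Nonempty (((resPush j).rightDerived 1).obj S.X₁ ≅ (Coh.Rpush j 1).obj (S.X₁.restrict j)) := by
      intro S hS hI
      haveI := hI
      have hT : (S.map (Scheme.Modules.restrictFunctor j)).ShortExact := hS.map_of_exact _
      obtain ⟨e₁⟩ := QCoh.nonempty_R1_iso (resPush j) hS ((resPush j).isZero_rightDerived_obj_injective_succ 0 _)
      obtain ⟨e₂⟩ := QCoh.nonempty_R1_iso (Scheme.Modules.pushforward j) hT (hac S.X₂ hI 0)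
      exact ⟨e₁ ≪≫ e₂.symm⟩
    obtain ⟨P⟩ := EnoughInjectives.presentation M
    exact key P.shortComplex P.shortExact_shortComplex P.injective
  | succ p ih =>
    intro M
    have key : ∀ S : ShortComplex Y.Modules, S.ShortExact → Injective S.X₂ →
        Nonempty (((resPush j).rightDerived (p + 2)).obj S.X₁ ≅ (Coh.Rpush j (p + 2)).obj (S.X₁.restrict j)) := by
      intro S hS hI
      haveI := hI
      have hT : (S.map (Scheme.Modules.restrictFunctor j)).ShortExact := hS.map_of_exact _
      obtain ⟨e₁⟩ := QCoh.nonempty_shift_iso (resPush j) hS p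
        ((resPush j).isZero_rightDerived_obj_injective_succ p _)
        ((resPush j).isZero_rightDerived_obj_injective_succ (p + 1) _)
      obtain ⟨e₂⟩ := QCoh.nonempty_shift_iso (Scheme.Modules.pushforward j) hT p (hac S.X₂ hI p) (hac S.X₂ hI (p + 1))
      obtain ⟨e₃⟩ := ih S.X₃
      exact ⟨e₁.symm ≪≫ e₃ ≪≫ e₂⟩
    obtain ⟨P⟩ := EnoughInjectives.presentation M
    exact key P.shortComplex P.shortExact_shortComplex P.injective

/-- The sheaves of local cohomology of a quasi-coherent module are quasi-coherent. -/
theorem isQCoh_HZshM [QuasiCompact j] [HasInjectiveResolutions Y.Modules] {M : Y.Modules}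
    (hM : Coh.IsQCoh M) (q : ℕ) : Coh.IsQCoh ((LocCohZ.HZshM j q).obj M) := by
  haveI := SpObjSS.enoughInjectives_of_hasInjectiveResolutions (C := Y.Modules)
  haveI : HasInjectiveResolutions U.Modules := inferInstance
  have hP : Coh.IsQCoh ((resPush j).obj M) := QCoh.isQCoh_pushforward j (QCoh.isQCoh_restrict j hM)
  rcases q with _ | _ | q
  · exact (QCoh.isQCoh_iff_iso ((DCoh.gammaZ j).rightDerivedZeroIsoSelf.app M)).2
      (QCoh.isQCoh_kernel hM hP _)
  · obtain ⟨e⟩ := SiteBase.nonempty_rightDerived_one_iso (ιGammaZ j) (Scheme.Modules.restrictAdjunction j).unit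
      (wGammaZ j) (hkerGammaZ j) (epi_unit_of_injectiveMod j)
    refine (QCoh.isQCoh_iff_iso (e.app M)).2 ?_
    refine (QCoh.isQCoh_iff_iso (((cokernelIsCokernel ((Scheme.Modules.restrictAdjunction j).unit.app M))).coconePointUniqueUpToIso
      (SiteBase.cokerAt (Scheme.Modules.restrictAdjunction j).unit M))).1 ?_
    exact QCoh.isQCoh_cokernel hM hP _
  · obtain ⟨e⟩ := SiteBase.nonempty_rightDerived_succ_iso (ιGammaZ j) (Scheme.Modules.restrictAdjunction j).unit
      (wGammaZ j) (hkerGammaZ j) (epi_unit_of_injectiveMod j) q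
    obtain ⟨e'⟩ := nonempty_resPush_iso j q M
    refine (QCoh.isQCoh_iff_iso (e.app M)).2 ((QCoh.isQCoh_iff_iso e').2 ?_)
    exact QCoh.isQCoh_Rpush j (QCoh.isQCoh_restrict j hM) (q + 1)

end Groth.Agent.H1LCZ

end
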