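import Groth.Agent.H1LCZ.Depth
import Groth.Agent.H1LCZ.AffineIso
import Groth.Agent.LC.DepthLoc
import Groth.Agent.LC.CdDim

/-!
# Cohomology with supports on an affine open as local cohomology
-/

set_option autoImplicit false
set_option linter.style.haveILetI false
set_option backward.isDefEq.respectTransparency false
set_option backward.isDefEq.respectTransparency.types false

universe u

open CategoryTheory CategoryTheory.Limits AlgebraicGeometry TopologicalSpace Opposite CategoryTheory.Abelian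

noncomputable section

namespace Groth.Agent.H1LCZ

open Groth.Agent

variable {X : Scheme.{u}}

/-- Cohomology with supports on an affine open of a locally Noetherian scheme is local cohomology. -/
theorem exists_affine_iso [IsLocallyNoetherian X] (M : X.Modules) (hM : Coh.IsQCoh M) {V : X.Opens}
    (hV : IsAffineOpen V) (U : X.Opens) :
    ∃ I : Ideal Γ(X, V),
      (∀ (x : X) (hx : x ∈ V), I ≤ (hV.primeIdealOf ⟨x, hx⟩).asIdeal ↔ x ∉ (U : Set X)) ∧
      ∀ i : ℕ, Nonempty (LocCohZ.HZ (X := X.carrier) (Coh.toAb M) i (inf_le_left : V ⊓ U ≤ V) ≃+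
        (localCohomology I i).obj (ModuleCat.of Γ(X, V) Γ(M, V))) := by
  haveI : IsNoetherianRing Γ(X, V) := IsLocallyNoetherian.component_noetherian ⟨V, hV⟩
  let j := hV.fromSpec
  let U' : (Spec Γ(X, V)).Opens := j ⁻¹ᵁ U
  obtain ⟨I, hI⟩ := (PrimeSpectrum.isClosed_iff_zeroLocus_ideal _).1 U'.2.isClosed_compl
  have hU : (show Set (PrimeSpectrum Γ(X, V)) from U'.carrier) = (PrimeSpectrum.zeroLocus (I : Set Γ(X, V)))ᶜ :=
    (compl_compl (show Set (PrimeSpectrum Γ(X, V)) from U'.carrier)).symm.trans (congrArg compl hI)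
  refine ⟨I, fun x hx => ?_, fun i => ?_⟩
  · refine Iff.trans (PrimeSpectrum.mem_zeroLocus _ _).symm ?_
    rw [← hI]
    show ¬ (j (hV.primeIdealOf ⟨x, hx⟩) ∈ (U : Set X)) ↔ _
    rw [hV.fromSpec_primeIdealOf ⟨x, hx⟩]
  let N : ModuleCat.{u} Γ(X, V) := moduleSpecΓFunctor.obj (M.restrict j)
  haveI : IsIso (M.restrict j).fromTildeΓ :=
    isQuasicoherent_iff_isIso_fromTildeΓ _ |>.1 (QCoh.isQCoh_restrict j hM)
  let eAb : Coh.toAb (tilde N) ≅ (QCoh.Ab.restr j.isOpenEmbedding).obj (Coh.toAb M) :=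
    (SheafOfModules.toSheaf (Spec Γ(X, V)).ringCatSheaf).mapIso (asIso (M.restrict j).fromTildeΓ)
  obtain ⟨e₁⟩ := nonempty_HZ_restr (X := X.carrier) (Y := (Spec Γ(X, V)).carrier) j.isOpenEmbedding
    (le_top : U' ≤ ⊤) (inf_le_left : V ⊓ U ≤ V) (fromSpec_image_preimage hV U)
    (QCoh.image_top_fromSpec hV) (Coh.toAb M) i
  let e₂ := (((Abelian.extFunctor i).obj
    (op (LocCohZ.zq (X := (Spec Γ(X, V)).carrier) (le_top : U' ≤ ⊤)))).mapIso eAb).addCommGroupIsoToAddEquiv
  obtain ⟨e₃⟩ := nonempty_HT_addEquiv I U' hU i N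
  let e₄ := (((localCohomology I i).mapIso (QCoh.chartEquiv hV M).toModuleIso).toLinearEquiv).toAddEquiv
  exact ⟨e₁.trans (e₂.symm.trans (e₃.trans e₄.symm))⟩

end Groth.Agent.H1LCZ

end
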